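import Cfsg.Agent.Components.Sfour.Offender
import Cfsg.Agent.Fusion.ThompsonControl
import Cfsg.Agent.Components.KInf.WeakClosure

/-!
`N(J(S))` controls weak closure of its central elements.
-/

set_option autoImplicit false
set_option linter.style.haveILetI false
set_option linter.unusedSectionVars false

namespace Cfsg.Lib.JWeak

open Subgroup
open Cfsg.Lib.Fusion (maxAb)
open Cfsg.Lib.KInf (zc map_zc)

universe u

variable {G : Type u} [Group G] [Finite G] {p : ℕ} [Fact p.Prime]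

theorem map_thompsonAOf_le {H : Type u} [Group H] {f : G →* H} (hf : Function.Injective f) (P : Subgroup G) :
    (Cfsg.thompsonSubgroupAOf P).map f ≤ Cfsg.thompsonSubgroupAOf (P.map f) := by
  rw [Cfsg.Lib.Fusion.thompsonAOf_eq, Cfsg.Lib.Fusion.thompsonAOf_eq, map_le_iff_le_comap]
  exact sSup_le fun A hA => map_le_iff_le_comap.mp (le_sSup (Cfsg.Lib.ZJ.map_maxAb_injOn hf.injOn hA))

theorem map_conj_thompsonAOf (g : G) (P : Subgroup G) :
    Cfsg.thompsonSubgroupAOf (P.map (MulAut.conj g).toMonoidHom) =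
      (Cfsg.thompsonSubgroupAOf P).map (MulAut.conj g).toMonoidHom := by
  refine le_antisymm ?_ (map_thompsonAOf_le (MulAut.conj g).injective P)
  have h := map_mono (f := (MulAut.conj g).toMonoidHom)
    (map_thompsonAOf_le (f := (MulAut.conj g⁻¹).toMonoidHom) (MulAut.conj g⁻¹).injective (P.map (MulAut.conj g).toMonoidHom))
  have e : ∀ K : Subgroup G, (K.map (MulAut.conj g⁻¹).toMonoidHom).map (MulAut.conj g).toMonoidHom = K := fun K => by
    rw [map_map]
    convert map_id K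
    ext x
    simp [mul_assoc]
  have e' : (P.map (MulAut.conj g).toMonoidHom).map (MulAut.conj g⁻¹).toMonoidHom = P := by
    rw [map_map]
    convert map_id P
    ext x
    simp [mul_assoc]
  rwa [e, e'] at h

theorem conjFunctor : Cfsg.IsConjugacyFunctor p (fun P : Subgroup G => Cfsg.thompsonSubgroupAOf P) :=
  fun P hP => ⟨Cfsg.Lib.Fusion.thompsonAOf_le P, fun hne h0 => Cfsg.Lib.Thompson.center_ne_bot hP hne
    (le_bot_iff.mp (Cfsg.Lib.Fusion.center_le_thompsonAOf.trans h0.le)), fun g => map_conj_thompsonAOf g P⟩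

theorem exists_not_le {H T : Subgroup G} (hTH : T ≤ H) (hT : IsPGroup p T) (hnd : ¬ p ∣ T.relIndex H)
    (hn : ¬ H ≤ normalizer ((Cfsg.thompsonSubgroupAOf T : Subgroup G) : Set G)) :
    ∃ A ∈ maxAb T, ¬ A ≤ Cfsg.pCoreOf p H := by
  by_contra hcon
  push Not at hcon
  refine hn fun h hh => ?_
  let T' : Sylow p H := (hT.comap_subtype (K := H)).toSylow hnd
  have hQT : Cfsg.pCoreOf p H ≤ T := by
    refine (map_mono (Cfsg.Lib.Thompson.le_sylow_of_normal (Cfsg.Lib.Components.isPGroup_pCore p) T')).trans ?_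
    rintro _ ⟨x, hx, rfl⟩
    exact hx
  rw [← Cfsg.Lib.Transfer.map_conj_eq_self_iff]
  refine eq_of_le_of_card_ge ?_ (Cfsg.Lib.Transfer.card_map_conj _ h).ge
  rw [Cfsg.Lib.Fusion.thompsonAOf_eq, map_le_iff_le_comap]
  refine sSup_le fun A hA => map_le_iff_le_comap.mp (le_sSup ?_)
  have hAT : A.map (MulAut.conj h).toMonoidHom ≤ T := by
    refine le_trans ?_ hQT
    rintro _ ⟨a, ha, rfl⟩
    obtain ⟨q, hq, e⟩ := hcon A hA ha
    exact ⟨⟨h, hh⟩ * q * ⟨h, hh⟩⁻¹, (inferInstance : (Cfsg.pCore p H).Normal).conj_mem q hq _, by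
      rw [← e]; rfl⟩
  refine ⟨hAT, ?_, fun A' h1 h2 => ?_⟩
  · haveI := hA.2.1
    exact Subgroup.map_isMulCommutative A _
  · rw [Cfsg.Lib.Transfer.card_map_conj]
    exact hA.2.2 A' h1 h2

/-- Thompson replacement: a quadratic element outside `O_p` -/
theorem exists_quadratic_sylow (S : Sylow p G)
    (hJ : ∃ A ∈ maxAb (S : Subgroup G), ¬ A ≤ Cfsg.pCore p G) :
    ∃ g, g ∈ (S : Subgroup G) ∧ g ∉ Cfsg.pCore p G ∧
      ⁅⁅zc (Cfsg.pCore p G), zpowers g⁆, zpowers g⁆ = ⊥ := by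
  classical
  set Q := Cfsg.pCore p G
  set B := zc Q
  haveI hBn : B.Normal := inferInstanceAs (Q ⊓ centralizer (Q : Set G)).Normal
  set T := (S : Subgroup G)
  have hQT : Q ≤ T := Cfsg.Lib.Thompson.le_sylow_of_normal (Cfsg.Lib.Components.isPGroup_pCore p) S
  have hBT : B ≤ T := inf_le_left.trans hQT
  haveI hBc : IsMulCommutative B := ⟨⟨fun a b => Subtype.ext (mem_centralizer_iff.mp b.2.2 _ a.2.1)⟩⟩
  obtain ⟨A, ⟨hA, hAQ⟩, hmax⟩ := Set.exists_max_image {A | A ∈ maxAb T ∧ ¬ A ≤ Q}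
    (fun A => Nat.card ↥(A ⊓ B)) (Set.toFinite _) (let ⟨A, h1, h2⟩ := hJ; ⟨A, h1, h2⟩)
  obtain ⟨g, hg, hgQ⟩ := SetLike.not_le_iff_exists.mp hAQ
  by_cases hN : B ≤ normalizer (A : Set G)
  · haveI := hA.2.1
    exact ⟨g, hA.1 hg, hgQ, Cfsg.Lib.ZJ.quadratic_of_normalizes hN hg⟩
  exfalso
  set N := T ⊓ normalizer (A : Set G)
  have hlt : N < B ⊔ N := lt_of_le_of_ne le_sup_right fun e => hN fun x hx =>
    (show x ∈ N from e ▸ mem_sup_left hx).2
  have hlt' : N.subgroupOf (B ⊔ N) < ⊤ := by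
    rw [lt_top_iff_ne_top, ne_eq, subgroupOf_eq_top]
    exact hlt.not_ge
  haveI := (S.2.to_le (sup_le hBT inf_le_left) : IsPGroup p ↥(B ⊔ N)).isNilpotent
  obtain ⟨⟨x, hxU⟩, hx, hxN⟩ := SetLike.exists_of_lt (Group.normalizerCondition_of_isNilpotent _ hlt')
  obtain ⟨b, hb, n, hn, hbn⟩ := (mem_sup_of_normal_left (s := B) (t := N)).mp hxU
  have hbU : b ∈ B ⊔ N := mem_sup_left hb
  have hbnorm : (⟨b, hbU⟩ : ↥(B ⊔ N)) ∈ normalizer (N.subgroupOf (B ⊔ N) : Set ↥(B ⊔ N)) := by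
    have h1 : (⟨b, hbU⟩ : ↥(B ⊔ N)) = ⟨x, hxU⟩ * (⟨n, mem_sup_right hn⟩ : ↥(B ⊔ N))⁻¹ :=
      Subtype.ext (by show b = x * n⁻¹; rw [← hbn, mul_inv_cancel_right])
    rw [h1]
    exact mul_mem hx (inv_mem (le_normalizer hn))
  have hbA : b ∉ normalizer (A : Set G) := fun h => hxN (by
    show x ∈ N
    rw [← hbn]
    exact mul_mem ⟨hBT hb, h⟩ hn)
  obtain ⟨k, hk⟩ := S.2 ⟨b, hBT hb⟩
  have R : Cfsg.Lib.Fusion.ReplSetup p A B b :=
    { comm := hA.2.1
      normB := le_normalizer_of_normal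
      derived := (Subgroup.commutator_eq_bot_iff_le_centralizer.mpr fun u hu => mem_centralizer_iff.mpr fun v hv =>
        congrArg Subtype.val (mul_comm' (⟨v, hv⟩ : B) ⟨u, hu⟩)).le.trans bot_le
      mem := hb
      prime := Fact.out
      pA := S.2.to_le hA.1
      pow := ⟨k, congrArg Subtype.val hk⟩
      odd := Or.inr hBc
      conjN := fun a ha => ((mem_normalizer_iff.mp hbnorm ⟨a, mem_sup_right ⟨hA.1 ha, le_normalizer ha⟩⟩).mp
        (show a ∈ N from ⟨hA.1 ha, le_normalizer ha⟩) : b * a * b⁻¹ ∈ N).2 }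
  have hA'T : Cfsg.Lib.Fusion.replaceBy A b ≤ T := sup_le (inf_le_left.trans hA.1) ((closure_le _).mpr (by
    rintro _ ⟨a, ha, rfl⟩
    exact T.mul_mem (T.inv_mem (hA.1 ha)) (T.mul_mem (T.mul_mem (hBT hb) (hA.1 ha)) (T.inv_mem (hBT hb)))))
  have hmem : Cfsg.Lib.Fusion.replaceBy A b ∈ maxAb T := ⟨hA'T, R.isMulCommutative_replaceBy, fun A' h1 h2 =>
    R.card_replaceBy.symm ▸ hA.2.2 A' h1 h2⟩
  have hlt2 := R.inf_lt_replaceBy hbA
  by_cases hA'Q : Cfsg.Lib.Fusion.replaceBy A b ≤ Q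
  swap
  · exact hlt2.ne (eq_of_le_of_card_ge hlt2.le (hmax _ ⟨hmem, hA'Q⟩))
  -- `B` centralizes the replaced subgroup, so lies in it
  have hsup : IsMulCommutative ↥(B ⊔ Cfsg.Lib.Fusion.replaceBy A b : Subgroup G) := by
    haveI := hmem.2.1
    rw [sup_eq_closure]
    refine Subgroup.isMulCommutative_closure ?_
    rintro u (hu | hu) v (hv | hv)
    · exact congrArg Subtype.val (mul_comm' (⟨u, hu⟩ : B) ⟨v, hv⟩)
    · exact (mem_centralizer_iff.mp hu.2 v (hA'Q hv)).symm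
    · exact mem_centralizer_iff.mp hv.2 u (hA'Q hu)
    · exact congrArg Subtype.val (mul_comm' (⟨u, hu⟩ : Cfsg.Lib.Fusion.replaceBy A b) ⟨v, hv⟩)
  have e := eq_of_le_of_card_ge (le_sup_right : Cfsg.Lib.Fusion.replaceBy A b ≤ B ⊔ _)
    (hmem.2.2 _ (sup_le hBT hA'T) hsup)
  exact hN ((le_sup_left.trans e.ge).trans R.replaceBy_le_normalizer)

theorem subgroupOf_maxAb {H T A : Subgroup G} (hTH : T ≤ H) (hA : A ∈ maxAb T) :
    A.subgroupOf H ∈ maxAb (T.subgroupOf H) := by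
  have hAH : A ≤ H := hA.1.trans hTH
  refine ⟨fun a ha => hA.1 ha, ?_, fun A' h1 h2 => ?_⟩
  · haveI := hA.2.1
    refine ⟨⟨fun a b => Subtype.ext (Subtype.ext ?_)⟩⟩
    show ((a : H) : G) * ((b : H) : G) = ((b : H) : G) * ((a : H) : G)
    exact congrArg Subtype.val (mul_comm' (⟨((a : H) : G), a.2⟩ : A) ⟨((b : H) : G), b.2⟩)
  · rw [Nat.card_congr (subgroupOfEquivOfLe hAH).toEquiv, ← card_map_of_injective H.subtype_injective (K := A')]
    haveI := h2
    refine hA.2.2 _ ?_ (Subgroup.map_isMulCommutative A' _)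
    rintro _ ⟨a, ha, rfl⟩
    exact h1 ha

theorem exists_quadratic {H T : Subgroup G} (hTH : T ≤ H) (hT : IsPGroup p T) (hnd : ¬ p ∣ T.relIndex H)
    (hn : ¬ H ≤ normalizer ((Cfsg.thompsonSubgroupAOf T : Subgroup G) : Set G)) :
    ∃ g : G, g ∈ T ∧ g ∉ Cfsg.pCoreOf p H ∧
      ⁅⁅Cfsg.pCoreOf p H ⊓ centralizer (Cfsg.pCoreOf p H : Set G), zpowers g⁆, zpowers g⁆ = ⊥ := by
  let T' : Sylow p H := (hT.comap_subtype (K := H)).toSylow hnd
  obtain ⟨A, hA, hAQ⟩ := exists_not_le hTH hT hnd hn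
  obtain ⟨g, hgT, hgQ, hq⟩ := exists_quadratic_sylow T' ⟨A.subgroupOf H, subgroupOf_maxAb hTH hA, fun h =>
    hAQ fun a ha => ⟨⟨a, hTH (hA.1 ha)⟩, h ha, rfl⟩⟩
  refine ⟨(g : G), hgT, ?_, ?_⟩
  · rintro ⟨q, hq', e⟩
    exact hgQ ((show q = g from Subtype.ext e) ▸ hq')
  · have h := congrArg (Subgroup.map H.subtype) hq
    rw [map_commutator, map_commutator, Subgroup.map_bot, MonoidHom.map_zpowers] at h
    rw [show Cfsg.pCoreOf p H ⊓ centralizer (Cfsg.pCoreOf p H : Set G) =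
      (Cfsg.pCore p H ⊓ centralizer (Cfsg.pCore p H : Set H)).map H.subtype from
        (map_zc H.subtype_injective (Cfsg.pCore p H)).symm]
    exact h

theorem exists_small_degree (hp : p ≠ 2) (H T : Subgroup G) (hTH : T ≤ H) (hT : IsPGroup p T)
    (hnd : ¬ p ∣ T.relIndex H)
    (hn : ¬ H ≤ normalizer ((Cfsg.thompsonSubgroupAOf T : Subgroup G) : Set G)) :
    ∃ g : G, g ∈ T ∧ g ∉ Cfsg.pCoreOf p H ∧ ∀ U V : Subgroup H, Cfsg.IsChiefFactor U V →
      U.map H.subtype ≤ Cfsg.pCoreOf p H ⊓ centralizer (Cfsg.pCoreOf p H : Set G) →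
      Cfsg.iterCommutator (U.map H.subtype) (zpowers g) (p - 1) ≤ V.map H.subtype := by
  obtain ⟨g, h1, h2, h3⟩ := exists_quadratic hTH hT hnd hn
  refine ⟨g, h1, h2, fun U V _ hU => ?_⟩
  have h4 : Cfsg.iterCommutator (U.map H.subtype) (zpowers g) 2 = ⊥ :=
    le_bot_iff.mp ((Cfsg.Lib.Degree.iterCommutator_mono hU _ 2).trans h3.le)
  have hp2 : 2 ≤ p - 1 := by
    have := (Fact.out : p.Prime).two_le
    omega
  exact (Cfsg.Lib.Degree.iterCommutator_eq_bot_of_le hp2 h4).le.trans bot_le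

/-- an element of `S` central in `N(J S)` is weakly closed, `p` odd -/
theorem weaklyClosed_odd (hp : p ≠ 2) (S : Sylow p G) {x : G} (hxS : x ∈ (S : Subgroup G))
    (hxN : x ∈ centralizer ((normalizer ((Cfsg.thompsonSubgroupAOf (S : Subgroup G)) : Set G) : Subgroup G) : Set G))
    {g : G} (hg : g * x * g⁻¹ ∈ (S : Subgroup G)) : g * x * g⁻¹ = x :=
  Cfsg.Lib.Control.element_weaklyClosed _ conjFunctor (fun _ _ => Cfsg.Lib.Fusion.center_le_thompsonAOf)
    (fun H T hTH hT hnd hn => exists_small_degree hp H T hTH hT hnd hn) ⊤ (S : Subgroup G) le_top S.2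
    (by rw [relIndex_top_right]; exact S.not_dvd_index) hxS (centralizer_le inf_le_right hxN) (mem_top g) hg

/-- `p`-th powers of the centre -/
theorem weaklyClosed_pow (S : Sylow p G) {x : G}
    (hx : ∃ z ∈ (S : Subgroup G) ⊓ centralizer ((S : Subgroup G) : Set G), z ^ p = x)
    (hxN : x ∈ centralizer ((normalizer ((Cfsg.thompsonSubgroupAOf (S : Subgroup G)) : Set G) : Subgroup G) : Set G))
    {g : G} (hg : g * x * g⁻¹ ∈ (S : Subgroup G)) : g * x * g⁻¹ = x := by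
  obtain ⟨z, hz, rfl⟩ := hx
  exact (Cfsg.Lib.Control.powers_weaklyClosed _ conjFunctor (fun _ _ => Cfsg.Lib.Fusion.center_le_thompsonAOf)
    (fun H T hTH hT hnd hn => exists_quadratic hTH hT hnd hn) S _ rfl).1 _
    ⟨subset_closure ⟨z, hz, rfl⟩, hxN⟩ g hg

/-- an element of `S` central in `N(J S)` is weakly closed, `p = 2`, `S₄`-free -/
theorem weaklyClosed_two [Fact (Nat.Prime 2)] (h4 : ¬ Cfsg.Involves (Equiv.Perm (Fin 4)) G) (S : Sylow 2 G) {x : G}
    (hxS : x ∈ (S : Subgroup G))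
    (hxN : x ∈ centralizer ((normalizer ((Cfsg.thompsonSubgroupAOf (S : Subgroup G)) : Set G) : Subgroup G) : Set G))
    {g : G} (hg : g * x * g⁻¹ ∈ (S : Subgroup G)) : g * x * g⁻¹ = x := by
  have hmem : ∀ y : G, y ∈ centralizer ({x} : Set G) ↔ y ∈ centralizer ((zpowers x : Subgroup G) : Set G) := by
    intro y
    rw [zpowers_eq_closure, centralizer_closure]
  have hSN : (S : Subgroup G) ≤ normalizer ((Cfsg.thompsonSubgroupAOf (S : Subgroup G)) : Set G) := fun s hs => by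
    rw [← Cfsg.Lib.Transfer.map_conj_eq_self_iff, ← map_conj_thompsonAOf,
      Cfsg.Lib.Transfer.map_conj_eq_self_iff.mpr (le_normalizer hs)]
  have key := Cfsg.Lib.Control.weakClosure_main _ conjFunctor (fun _ _ => Cfsg.Lib.Fusion.center_le_thompsonAOf)
    (A := zpowers x) (B := zpowers x) (Stab := centralizer ({x} : Set G)) (p := 2)
    le_rfl (fun y hy => (hmem y).mpr hy)
    (fun y hy => Cfsg.Lib.Thompson.centralizer_le_normalizer _ ((hmem y).mp hy))
    (fun H T hTH hT hnd hB hn hM hAQ => by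
      let T' : Sylow 2 H := (hT.comap_subtype (K := H)).toSylow hnd
      obtain ⟨A, hA, hAQ'⟩ := exists_not_le hTH hT hnd hn
      obtain ⟨q, hq, hqx : (q : G) = x⟩ := hAQ (mem_zpowers x)
      have hxH : x ∈ H := hqx ▸ q.2
      have hsub : centralizer ({q} : Set H) = (centralizer ({x} : Set G)).subgroupOf H := by
        ext y
        rw [mem_subgroupOf, mem_centralizer_singleton_iff, mem_centralizer_singleton_iff, Subtype.ext_iff, ← hqx]
        rfl
      refine Cfsg.Lib.Control.top_of_sub ?_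
      rw [← hsub]
      refine Cfsg.Lib.Sfour.central_of_sfour_free
        (fun h => h4 (Cfsg.Lib.QdFree.involves_of_injective H.subtype_injective h)) T' hq
        (mem_centralizer_iff.mpr fun t ht => Subtype.ext ?_)
        ⟨A.subgroupOf H, subgroupOf_maxAb hTH hA, fun h => hAQ' fun a ha => ⟨⟨a, hTH (hA.1 ha)⟩, h ha, rfl⟩⟩ ?_
      · show (t : G) * q = q * t
        rw [hqx]
        exact mem_centralizer_iff.mp (hB (mem_zpowers x)).2 (t : G) ht
      · intro M hTM hMne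
        rw [hsub]
        exact Cfsg.Lib.Control.sub_hM hTH hM M hTM hMne)
    _ ⊤ (S : Subgroup G) rfl le_top S.2 (by rw [relIndex_top_right]; exact S.not_dvd_index)
    (zpowers_le.mpr ⟨hxS, centralizer_le hSN hxN⟩)
    (fun y hy => mem_centralizer_singleton_iff.mpr (mem_centralizer_iff.mp hxN y hy.2))
    g (mem_top g) (by rw [MonoidHom.map_zpowers]; exact zpowers_le.mpr hg)
  rw [mem_centralizer_singleton_iff.mp key, mul_inv_cancel_right]

end Cfsg.Lib.JWeak
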