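import Cfsg.Agent.Components.Sfour.Section
import Cfsg.Agent.Components.Qd.Free
import Cfsg.Agent.Quadratic.StableQd
import Cfsg.Agent.Coprime.Sylow
import Cfsg.Agent.PGroups.Basic

/-!
`S₄` is involved exactly when some `2`-local automizer involves `S₃`.
-/

set_option linter.style.haveILetI false
set_option linter.unusedSectionVars false

namespace Cfsg.Lib.Sfour

open Subgroup

universe u

section Elementary

variable {G : Type u} [Group G] [Finite G]

/-- an element of order three inverted by a `2`-element on an elementary abelian normal `2`-group -/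
theorem involves_of_inverted {E : Subgroup G} [E.Normal] (hE : ∀ e ∈ E, e * e = 1)
    {y s : G} (hy : y ^ 3 ∈ centralizer (E : Set G)) (hyn : y ∉ centralizer (E : Set G))
    (hsy : s * y * s⁻¹ * y ∈ centralizer (E : Set G)) {a : ℕ} (hs : s ^ 2 ^ a = 1) :
    Cfsg.Involves (Equiv.Perm (Fin 4)) G := by
  classical
  have hn : ∀ (g : G), ∀ e ∈ E, g * e * g⁻¹ ∈ E := fun g e he => (inferInstance : E.Normal).conj_mem e he g
  have hinv : ∀ e ∈ E, e⁻¹ = e := fun e he => inv_eq_of_mul_eq_one_right (hE e he)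
  have hcomm : ∀ e ∈ E, ∀ f ∈ E, e * f = f * e := fun e he f hf => by
    have h := hinv _ (mul_mem he hf)
    rw [mul_inv_rev, hinv e he, hinv f hf] at h
    exact h.symm
  have hfix : ∀ c ∈ centralizer (E : Set G), ∀ e ∈ E, c * e * c⁻¹ = e := fun c hc e he => by
    rw [← mem_centralizer_iff.mp hc e he, mul_inv_cancel_right]
  set δ : G → G := fun e => e * (s * e * s⁻¹) with hδ
  let D : G → Prop := fun e => e ∈ E ∧ e * (y * e * y⁻¹) * (y * (y * e * y⁻¹) * y⁻¹) = 1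
  have h3 : ∀ e ∈ E, y * (y * (y * e * y⁻¹) * y⁻¹) * y⁻¹ = e := fun e he => by
    calc _ = y ^ 3 * e * (y ^ 3)⁻¹ := by rw [pow_succ, pow_two]; group
      _ = e := hfix _ hy e he
  have hsyc : ∀ e ∈ E, s * (y * e * y⁻¹) * s⁻¹ = y⁻¹ * (s * e * s⁻¹) * y := fun e he => by
    have h4 : y⁻¹ * (s * e * s⁻¹) * y ∈ E := by simpa using hn y⁻¹ _ (hn s e he)
    calc _ = (s * y * s⁻¹ * y) * (y⁻¹ * (s * e * s⁻¹) * y) * (s * y * s⁻¹ * y)⁻¹ := by group
      _ = _ := hfix _ hsy _ h4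
  have hyi : ∀ e ∈ E, y⁻¹ * e * y = y * (y * e * y⁻¹) * y⁻¹ := fun e he => by
    conv_lhs => rw [← h3 e he]
    group
  have hDs : ∀ e, D e → D (s * e * s⁻¹) := by
    rintro e ⟨he, h⟩
    refine ⟨hn s e he, ?_⟩
    set e' := s * e * s⁻¹ with he'
    have hA : s * (y * e * y⁻¹) * s⁻¹ = y * (y * e' * y⁻¹) * y⁻¹ := by rw [hsyc e he, hyi e' (hn s e he)]
    have hB : s * (y * (y * e * y⁻¹) * y⁻¹) * s⁻¹ = y * e' * y⁻¹ := by
      rw [hsyc _ (hn y e he), hA]; group
    have hh : s * (e * (y * e * y⁻¹) * (y * (y * e * y⁻¹) * y⁻¹)) * s⁻¹ = 1 := by rw [h]; group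
    rw [show s * (e * (y * e * y⁻¹) * (y * (y * e * y⁻¹) * y⁻¹)) * s⁻¹ =
      (s * e * s⁻¹) * (s * (y * e * y⁻¹) * s⁻¹) * (s * (y * (y * e * y⁻¹) * y⁻¹) * s⁻¹) by group, hA, hB,
      mul_assoc] at hh
    rw [mul_assoc, hcomm _ (hn y _ (hn s e he)) _ (hn y _ (hn y _ (hn s e he)))]
    exact hh
  have hshuffle : ∀ a ∈ E, ∀ b ∈ E, ∀ c ∈ E, ∀ d ∈ E, a * b * (c * d) = a * c * (b * d) := by
    intro a _ b hb c hc d _
    rw [mul_assoc, ← mul_assoc b, hcomm b hb c hc, mul_assoc c, ← mul_assoc]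
  have hDmul : ∀ e f, D e → D f → D (e * f) := by
    rintro e f ⟨he, h⟩ ⟨hf, h'⟩
    refine ⟨mul_mem he hf, ?_⟩
    rw [show y * (e * f) * y⁻¹ = (y * e * y⁻¹) * (y * f * y⁻¹) by group,
      show y * ((y * e * y⁻¹) * (y * f * y⁻¹)) * y⁻¹ = (y * (y * e * y⁻¹) * y⁻¹) * (y * (y * f * y⁻¹) * y⁻¹) by group,
      hshuffle e he f hf _ (hn y e he) _ (hn y f hf),
      hshuffle _ (mul_mem he (hn y e he)) _ (mul_mem hf (hn y f hf)) _ (hn y _ (hn y e he)) _ (hn y _ (hn y f hf)),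
      h, h', one_mul]
  have hDδ : ∀ e, D e → D (δ e) := fun e he => hDmul _ _ he (hDs e he)
  have hit : ∀ n : ℕ, ∀ e, D e → D (δ^[n] e) := by
    intro n
    induction n with
    | zero => exact fun e he => he
    | succ n ih => intro e he; rw [Function.iterate_succ_apply]; exact ih _ (hDδ e he)
  have hpow : ∀ i : ℕ, ∀ e ∈ E, δ^[2 ^ i] e = e * (s ^ 2 ^ i * e * (s ^ 2 ^ i)⁻¹) := by
    intro i
    induction i with
    | zero => intro e _; simp [hδ]
    | succ i ih =>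
      intro e he
      set g := s ^ 2 ^ i with hg
      rw [pow_succ, mul_two, Function.iterate_add_apply, ih e he, ih _ (mul_mem he (hn g e he)), pow_add, ← hg,
        show g * (e * (g * e * g⁻¹)) * g⁻¹ = (g * e * g⁻¹) * (g * (g * e * g⁻¹) * g⁻¹) by group,
        mul_assoc e, ← mul_assoc (g * e * g⁻¹), hE _ (hn g e he), one_mul]
      group
  obtain ⟨v, hv, hvy⟩ : ∃ v ∈ E, y * v * y⁻¹ ≠ v := by
    by_contra h
    push Not at h
    exact hyn (mem_centralizer_iff.mpr fun e he => (mul_inv_eq_iff_eq_mul.mp (h e he)).symm)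
  set d := v * (y * v * y⁻¹) with hd
  have hd1 : d ≠ 1 := fun h => hvy ((mul_eq_one_iff_eq_inv'.mp h).trans (hinv v hv))
  have hDd : D d := by
    refine ⟨mul_mem hv (hn y v hv), ?_⟩
    rw [hd, show y * (v * (y * v * y⁻¹)) * y⁻¹ = (y * v * y⁻¹) * (y * (y * v * y⁻¹) * y⁻¹) by group,
      show y * ((y * v * y⁻¹) * (y * (y * v * y⁻¹) * y⁻¹)) * y⁻¹ =
        (y * (y * v * y⁻¹) * y⁻¹) * (y * (y * (y * v * y⁻¹) * y⁻¹) * y⁻¹) by group, h3 v hv]
    have e1 := hE _ (hn y v hv)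
    have e2 := hE _ (hn y _ (hn y v hv))
    set p := y * v * y⁻¹
    set q := y * p * y⁻¹
    calc v * p * (p * q) * (q * v) = v * (p * p) * (q * q) * v := by group
      _ = 1 := by rw [e1, e2, mul_one, mul_one, hE v hv]
  obtain ⟨n, hn1, hn2⟩ : ∃ n : ℕ, δ^[n] d ≠ 1 ∧ δ^[n + 1] d = 1 := by
    by_contra h
    push Not at h
    have : ∀ n, δ^[n] d ≠ 1 := fun n => by
      induction n with
      | zero => exact hd1
      | succ n ih => exact h n ih
    refine this (2 ^ a) ?_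
    rw [hpow a d hDd.1, hs, one_mul, inv_one, mul_one, hE d hDd.1]
  set u := δ^[n] d with hu
  obtain ⟨huE, hu3⟩ : D u := hit n d hDd
  rw [Function.iterate_succ_apply', ← hu] at hn2
  have hsu : s * u * s⁻¹ = u := by
    have h : u * (s * u * s⁻¹) = 1 := hn2
    rw [mul_eq_one_iff_inv_eq, hinv u huE] at h
    exact h.symm
  set w := y * u * y⁻¹ with hw
  have hwE : w ∈ E := hn y u huE
  have huw : y * w * y⁻¹ = u * w := by
    rw [mul_eq_one_iff_inv_eq, hinv _ (mul_mem huE hwE)] at hu3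
    exact hu3.symm
  have hsw : s * w * s⁻¹ = u * w := by rw [hw, hsyc u huE, hsu, hyi u huE, ← hw, huw]
  have hne : u ≠ w := by
    intro h
    rw [← h, hE u huE] at huw
    exact hn1 (conj_eq_one_iff.mp huw)
  have hw1 : w ≠ 1 := fun h => hn1 (conj_eq_one_iff.mp h)
  refine involves_perm4 (hE u huE) (hE w hwE) hn1 hw1 hne (hcomm u huE w hwE) hsu hsw
    (b := y * s * y⁻¹) ?_ ?_
  · rw [hw, show y * s * y⁻¹ * (y * u * y⁻¹) * (y * s * y⁻¹)⁻¹ = y * (s * u * s⁻¹) * y⁻¹ by group, hsu]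
  · have hyu : y⁻¹ * u * y = u * w := by rw [hyi u huE, ← hw, huw]
    rw [show y * s * y⁻¹ * u * (y * s * y⁻¹)⁻¹ = y * (s * (y⁻¹ * u * y) * s⁻¹) * y⁻¹ by group, hyu,
      show s * (u * w) * s⁻¹ = (s * u * s⁻¹) * (s * w * s⁻¹) by group, hsu, hsw, ← mul_assoc u u, hE u huE,
      one_mul, huw]

end Elementary

theorem perm3_commutator : ∀ σ : Equiv.Perm (Fin 3), σ * σ * σ = 1 ∨ ∃ τ : Equiv.Perm (Fin 3),
    σ * τ * σ⁻¹ * τ⁻¹ ≠ 1 ∧ (σ * τ * σ⁻¹ * τ⁻¹) * (σ * τ * σ⁻¹ * τ⁻¹) * (σ * τ * σ⁻¹ * τ⁻¹) = 1 := by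
  decide +kernel

theorem perm3_noncommute : ∀ a b : Equiv.Perm (Fin 3), Equiv.Perm.sign a = -1 → Equiv.Perm.sign b = 1 →
    b ≠ 1 → a * b * a⁻¹ ≠ b := by decide +kernel

/-- a group mapping onto `S₃` has an element of order three inverted by a `2`-element -/
theorem exists_inverted_three {L : Type u} [Group L] [Finite L] (g : L →* Equiv.Perm (Fin 3))
    (hg : Function.Surjective g) :
    ∃ (y s : L) (a : ℕ), y ≠ 1 ∧ y ^ 3 = 1 ∧ s * y * s⁻¹ = y⁻¹ ∧ s ^ 2 ^ a = 1 := by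
  classical
  haveI : Fact (Nat.Prime 3) := ⟨Nat.prime_three⟩
  set A := (Equiv.Perm.sign.comp g).ker
  obtain ⟨R⟩ : Nonempty (Sylow 3 A) := inferInstance
  set P := (R : Subgroup A).map A.subtype with hP
  have hPp : IsPGroup 3 P := R.2.map _
  obtain ⟨p₀, hp₀, hgp₀⟩ : ∃ p ∈ P, g p ≠ 1 := by
    by_contra h
    push Not at h
    set g' := g.comp A.subtype
    have hle : (R : Subgroup A) ≤ g'.ker := fun r hr => h r (mem_map_of_mem _ hr)
    obtain ⟨l, hl⟩ := hg (Equiv.swap 0 1 * Equiv.swap 1 2)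
    have hlA : l ∈ A := by
      show Equiv.Perm.sign (g l) = 1
      rw [hl, map_mul, Equiv.Perm.sign_swap (by decide), Equiv.Perm.sign_swap (by decide)]
      decide
    refine R.not_dvd_index (dvd_trans ?_ (index_dvd_of_le hle))
    rw [index_ker]
    have h3 : orderOf (g' ⟨l, hlA⟩) = 3 := by
      show orderOf (g l) = 3
      rw [hl]
      exact orderOf_eq_prime (by decide) (by decide)
    exact h3.symm.dvd.trans (Subgroup.orderOf_dvd_natCard _ ⟨⟨l, hlA⟩, rfl⟩)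
  obtain ⟨t, ht, hts⟩ : ∃ t ∈ normalizer (P : Set L), Equiv.Perm.sign (g t) = -1 := by
    by_contra h
    push Not at h
    have hle : normalizer (P : Set L) ≤ A := fun m hm => (Int.units_eq_one_or _).resolve_right (h m hm)
    have h1 := Sylow.normalizer_sup_eq_top R
    rw [sup_eq_right.mpr hle] at h1
    obtain ⟨l, hl⟩ := hg (Equiv.swap 0 1)
    have hlA : Equiv.Perm.sign (g l) = 1 := (by have := mem_top l; rwa [← h1] at this : l ∈ A)
    rw [hl, Equiv.Perm.sign_swap (by decide)] at hlA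
    exact absurd hlA (by decide)
  obtain ⟨i, m, hm, him⟩ := Nat.exists_eq_two_pow_mul_odd (orderOf_pos t).ne'
  set t' := t ^ m with ht'
  have ht'2 : t' ^ 2 ^ i = 1 := by rw [ht', ← pow_mul, mul_comm, ← him, pow_orderOf_eq_one]
  have ht'N : t' ∈ normalizer (P : Set L) := pow_mem ht m
  have ht's : Equiv.Perm.sign (g t') = -1 := by rw [ht', map_pow, map_pow, hts, hm.neg_one_pow]
  have hnc : ¬ ∀ p ∈ P, t' * p * t'⁻¹ = p := by
    intro h
    have hp1 : Equiv.Perm.sign (g p₀) = 1 := by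
      obtain ⟨r, -, rfl⟩ := hp₀
      exact r.2
    refine perm3_noncommute _ _ ht's hp1 hgp₀ ?_
    rw [← map_inv, ← map_mul, ← map_mul, h p₀ hp₀]
  obtain ⟨j, hj1, hj2⟩ : ∃ j : ℕ, (¬ ∀ p ∈ P, t' ^ 2 ^ j * p * (t' ^ 2 ^ j)⁻¹ = p) ∧
      ∀ p ∈ P, t' ^ 2 ^ (j + 1) * p * (t' ^ 2 ^ (j + 1))⁻¹ = p := by
    by_contra h
    push Not at h
    have hall : ∀ j, ¬ ∀ p ∈ P, t' ^ 2 ^ j * p * (t' ^ 2 ^ j)⁻¹ = p := fun j => by
      induction j with
      | zero => rwa [pow_zero, pow_one]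
      | succ j ih => intro hc; obtain ⟨p, hp, hne⟩ := h j (by push Not at ih; exact ih); exact hne (hc p hp)
    exact hall i fun p _ => by rw [ht'2]; group
  set s := t' ^ 2 ^ j with hs
  have hs2 : ∀ p ∈ P, s * (s * p * s⁻¹) * s⁻¹ = p := fun p hp => by
    have h := hj2 p hp
    rw [pow_succ, mul_two, pow_add, ← hs] at h
    calc _ = s * s * p * (s * s)⁻¹ := by group
      _ = p := h
  push Not at hj1
  obtain ⟨p, hp, hps⟩ := hj1
  set c := p⁻¹ * (s * p * s⁻¹) with hc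
  have hcP : c ∈ P := mul_mem (inv_mem hp) ((mem_normalizer_iff.mp (pow_mem ht'N _) p).mp hp)
  have hc1 : c ≠ 1 := fun h => hps (inv_mul_eq_one.mp h).symm
  have hsc : s * c * s⁻¹ = c⁻¹ := by
    rw [hc, show s * (p⁻¹ * (s * p * s⁻¹)) * s⁻¹ = (s * p * s⁻¹)⁻¹ * (s * (s * p * s⁻¹) * s⁻¹) by group,
      hs2 p hp]
    group
  obtain ⟨k, hk⟩ := IsPGroup.iff_orderOf.1 hPp ⟨c, hcP⟩
  rw [orderOf_mk] at hk
  rcases k with - | k
  · exact absurd (orderOf_eq_one_iff.mp (by rw [hk, pow_zero])) hc1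
  refine ⟨c ^ 3 ^ k, s, i, fun h => ?_, ?_, ?_, ?_⟩
  · have h1 := Nat.le_of_dvd (by positivity) (hk ▸ orderOf_dvd_of_pow_eq_one h)
    have h2 : 3 ^ k < 3 ^ (k + 1) := Nat.pow_lt_pow_right (by norm_num) (by omega)
    omega
  · rw [← pow_mul, ← pow_succ, ← hk, pow_orderOf_eq_one]
  · rw [← conj_pow, hsc, inv_pow]
  · rw [hs, ← pow_mul, mul_comm, pow_mul, ht'2, one_pow]

variable {G : Type u} [Group G] [Finite G]

theorem involves_four_of_local {T : Subgroup G} (hT : IsPGroup 2 T)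
    (h : Cfsg.Involves (Equiv.Perm (Fin 3)) (normalizer (T : Set G) ⧸
      (centralizer (T : Set G)).subgroupOf (normalizer (T : Set G)))) :
    Cfsg.Involves (Equiv.Perm (Fin 4)) G := by
  classical
  set N := normalizer (T : Set G) with hN
  obtain ⟨K', R', hR, ⟨e⟩⟩ := h
  haveI := hR
  set π₀ := QuotientGroup.mk' ((centralizer (T : Set G)).subgroupOf N)
  let f : K'.comap π₀ →* Equiv.Perm (Fin 3) :=
    e.toMonoidHom.comp ((QuotientGroup.mk' (R'.subgroupOf K')).comp (π₀.subgroupComap K'))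
  have hf : Function.Surjective f :=
    e.surjective.comp ((QuotientGroup.mk'_surjective _).comp
      (MonoidHom.subgroupComap_surjective_of_surjective π₀ K' (QuotientGroup.mk'_surjective _)))
  have hfker : ∀ k : K'.comap π₀, ((k : N) : G) ∈ centralizer (T : Set G) → f k = 1 := by
    intro k hk
    have h1 : π₀.subgroupComap K' k = 1 :=
      Subtype.ext ((QuotientGroup.eq_one_iff (k : N)).mpr (mem_subgroupOf.mpr hk))
    simp only [f, MonoidHom.coe_comp, Function.comp_apply, h1, map_one]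
  set T' := T.subgroupOf N with hT'
  haveI : T'.Normal := normal_in_normalizer
  set Φ := (frattini T).map T.subtype
  haveI : (Φ.subgroupOf N).Normal := normal_subgroupOf_of_le_normalizer (by
    have key : ∀ g ∈ N, ∀ z ∈ Φ, g * z * g⁻¹ ∈ Φ := by
      rintro g hg - ⟨z, hz, rfl⟩
      exact ⟨T.normalizerMonoidHom ⟨g, hg⟩ z, characteristic_iff_le_comap.mp frattini_characteristic _ hz, rfl⟩
    exact fun g hg => Cfsg.Lib.Coprime.mem_normalizer_of_conj_mem (key g hg)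
      fun z hz => by simpa using key g⁻¹ (inv_mem hg) z hz)
  set π := QuotientGroup.mk' (Φ.subgroupOf N) with hπ
  set E := T'.map π with hEdef
  haveI : E.Normal := Subgroup.Normal.map inferInstance π (QuotientGroup.mk'_surjective _)
  have hE : ∀ x ∈ E, x * x = 1 := by
    rintro _ ⟨t, ht, rfl⟩
    rw [← map_mul]
    refine (QuotientGroup.eq_one_iff _).mpr (mem_subgroupOf.mpr ⟨⟨t, ht⟩ ^ 2, ?_, ?_⟩)
    · exact Cfsg.Lib.PGroups.pow_mem_frattini hT _
    · show ((t : G)) ^ 2 = (t : G) * t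
      exact pow_two _
  set C := centralizer (E : Set (N ⧸ Φ.subgroupOf N)) with hC
  have hodd : ∀ k : K'.comap π₀, π (k : N) ∈ C → Odd (orderOf k) → f k = 1 := by
    intro k hk ho
    refine hfker k (Cfsg.Lib.Coprime.le_centralizer_of_frattini (A := zpowers ((k : N) : G)) (K := T)
      (zpowers_le.mpr (k : N).2) ?_ ?_ (mem_zpowers _))
    · obtain ⟨j, hj⟩ := IsPGroup.iff_card.mp (hT.to_subgroup (frattini T))
      rw [hj, Nat.card_zpowers, orderOf_coe, orderOf_coe]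
      exact ho.coprime_two_right.pow_right j
    · intro a ha t ht
      obtain ⟨z, rfl⟩ := mem_zpowers_iff.mp ha
      have hmem : π ((k : N) ^ z) ∈ C := by rw [map_zpow]; exact zpow_mem hk z
      have h1 := mem_centralizer_iff.mp hmem (π ⟨t, le_normalizer ht⟩) (mem_map_of_mem π (mem_subgroupOf.mpr ht))
      have h2 : π ((k : N) ^ z * ⟨t, le_normalizer ht⟩ * ((k : N) ^ z)⁻¹ * (⟨t, le_normalizer ht⟩ : N)⁻¹) = 1 := by
        rw [map_mul, map_mul, map_mul, map_inv, map_inv, ← h1]; group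
      have h3 := mem_subgroupOf.mp ((QuotientGroup.eq_one_iff _).mp h2)
      simpa only [Subgroup.coe_mul, InvMemClass.coe_inv, SubgroupClass.coe_zpow] using h3
  set φ := (QuotientGroup.mk' C).comp (π.comp (K'.comap π₀).subtype) with hφ
  have hφker : φ.ker ≤ f.ker := by
    intro k hk
    have hmem : ∀ x ∈ φ.ker, π (x : N) ∈ C := fun x hx => (QuotientGroup.eq_one_iff _).mp hx
    have hpow : ∀ x ∈ φ.ker, ∃ i : ℕ, f x ^ 2 ^ i = 1 := by
      intro x hx
      obtain ⟨i, m, hm, him⟩ := Nat.exists_eq_two_pow_mul_odd (orderOf_pos x).ne'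
      refine ⟨i, ?_⟩
      rw [← map_pow]
      refine hodd _ (hmem _ (pow_mem hx _)) ?_
      rw [orderOf_pow_of_dvd (pow_ne_zero _ two_ne_zero) (him ▸ dvd_mul_right _ _), him,
        Nat.mul_div_cancel_left _ (by positivity)]
      exact hm
    have hcop : ∀ x ∈ φ.ker, f x * f x * f x = 1 → f x = 1 := by
      intro x hx h3
      obtain ⟨i, hi⟩ := hpow x hx
      exact orderOf_eq_one_iff.mp (Nat.eq_one_of_dvd_coprimes (Nat.Coprime.pow_right i (by norm_num : Nat.Coprime 3 2))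
        (orderOf_dvd_of_pow_eq_one (by rw [pow_succ, pow_two]; exact h3)) (orderOf_dvd_of_pow_eq_one hi))
    rcases perm3_commutator (f k) with h | ⟨τ, hτ1, hτ3⟩
    · exact hcop k hk h
    · obtain ⟨l, rfl⟩ := hf τ
      have hkk : k * l * k⁻¹ * l⁻¹ ∈ φ.ker := by
        rw [show k * l * k⁻¹ * l⁻¹ = k * (l * k⁻¹ * l⁻¹) by group]
        exact mul_mem hk (φ.normal_ker.conj_mem _ (inv_mem hk) l)
      have e1 : f (k * l * k⁻¹ * l⁻¹) = f k * f l * (f k)⁻¹ * (f l)⁻¹ := by simp only [map_mul, map_inv]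
      exact absurd (e1 ▸ hcop _ hkk (by rw [e1]; exact hτ3)) hτ1
  have hφ' : Function.Surjective φ.rangeRestrict := φ.rangeRestrict_surjective
  let g : φ.range →* Equiv.Perm (Fin 3) :=
    (φ.rangeRestrict.liftOfSurjective hφ') ⟨f, by rw [MonoidHom.ker_rangeRestrict]; exact hφker⟩
  have hgf : ∀ k, g (φ.rangeRestrict k) = f k := fun k =>
    MonoidHom.liftOfRightInverse_comp_apply _ _ _ ⟨f, by rw [MonoidHom.ker_rangeRestrict]; exact hφker⟩ k
  have hg : Function.Surjective g := fun σ => by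
    obtain ⟨k, rfl⟩ := hf σ
    exact ⟨_, hgf k⟩
  obtain ⟨y, s, a, hy1, hy3, hsy, hs⟩ := exists_inverted_three g hg
  obtain ⟨ky, rfl⟩ := hφ' y
  obtain ⟨ks, rfl⟩ := hφ' s
  set Y := π (ky : N) with hY
  set S₀ := π (ks : N) with hS0
  obtain ⟨i, m, hm, him⟩ := Nat.exists_eq_two_pow_mul_odd (orderOf_pos S₀).ne'
  obtain ⟨l, rfl⟩ := hm
  have hval : ∀ x : φ.range, x = 1 ↔ (x : (N ⧸ Φ.subgroupOf N) ⧸ C) = 1 := fun x =>
    ⟨fun h => by rw [h]; rfl, fun h => Subtype.ext h⟩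
  have hy3' : Y ^ 3 ∈ C := by
    refine (QuotientGroup.eq_one_iff _).mp ?_
    have := congrArg Subtype.val hy3
    exact this
  have hy1' : Y ∉ C := fun h => hy1 (Subtype.ext ((QuotientGroup.eq_one_iff _).mpr h))
  have hsy' : S₀ * Y * S₀⁻¹ * Y ∈ C := by
    refine (QuotientGroup.eq_one_iff _).mp ?_
    have := congrArg Subtype.val (mul_eq_one_iff_eq_inv.mpr hsy)
    exact this
  have hinvol : S₀ ^ (2 * l + 1) * Y * (S₀ ^ (2 * l + 1))⁻¹ * Y ∈ C := by
    set q := QuotientGroup.mk' C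
    have hq : ∀ x, q x = 1 ↔ x ∈ C := fun x => QuotientGroup.eq_one_iff x
    have hA : q S₀ * q Y * (q S₀)⁻¹ = (q Y)⁻¹ := by
      have := (hq _).mpr hsy'
      rw [map_mul, map_mul, map_mul, map_inv] at this
      exact mul_eq_one_iff_eq_inv.mp this
    have hB : Commute (q S₀ * q S₀) (q Y) := by
      refine mul_inv_eq_iff_eq_mul.mp ?_
      calc q S₀ * q S₀ * q Y * (q S₀ * q S₀)⁻¹ = q S₀ * (q S₀ * q Y * (q S₀)⁻¹) * (q S₀)⁻¹ := by group
        _ = (q S₀ * q Y * (q S₀)⁻¹)⁻¹ := by nth_rw 1 [hA]; group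
        _ = q Y := by rw [hA, inv_inv]
    refine (hq _).mp ?_
    rw [map_mul, map_mul, map_mul, map_inv, map_pow, pow_succ', pow_mul, pow_two]
    rw [show q S₀ * (q S₀ * q S₀) ^ l * q Y * (q S₀ * (q S₀ * q S₀) ^ l)⁻¹ =
      q S₀ * ((q S₀ * q S₀) ^ l * q Y * ((q S₀ * q S₀) ^ l)⁻¹) * (q S₀)⁻¹ by group,
      (hB.pow_left l).eq, mul_inv_cancel_right, hA, inv_mul_cancel]
  have h4 := involves_of_inverted hE hy3' hy1' hinvol (a := i)
    (by rw [← pow_mul, mul_comm, ← him, pow_orderOf_eq_one])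
  exact Cfsg.Lib.QdFree.involves_of_injective N.subtype_injective
    (Cfsg.Lib.QuadPair.involves_of_surjective (QuotientGroup.mk'_surjective _) h4)

def pairing (i : Fin 3) : Equiv.Perm (Fin 4) :=
  if i = 0 then Equiv.swap 3 0 * Equiv.swap 1 2
  else if i = 1 then Equiv.swap 3 1 * Equiv.swap 0 2 else Equiv.swap 3 2 * Equiv.swap 0 1

def pairIdx (x : Equiv.Perm (Fin 4)) : Fin 3 := if x 3 = 0 then 0 else if x 3 = 1 then 1 else 2

theorem pairIdx_inv : ∀ (σ : Equiv.Perm (Fin 4)) (i : Fin 3),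
    pairIdx (σ⁻¹ * pairing (pairIdx (σ * pairing i * σ⁻¹)) * σ) = i := by decide +kernel

theorem pairIdx_mul : ∀ (σ τ : Equiv.Perm (Fin 4)) (i : Fin 3),
    pairIdx (σ * τ * pairing i * (σ * τ)⁻¹) = pairIdx (σ * pairing (pairIdx (τ * pairing i * τ⁻¹)) * σ⁻¹) := by
  decide +kernel

/-- the action of `S₄` on the three partitions into pairs -/
def pairPerm : Equiv.Perm (Fin 4) →* Equiv.Perm (Fin 3) :=
  MonoidHom.mk' (fun σ =>
    { toFun := fun i => pairIdx (σ * pairing i * σ⁻¹)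
      invFun := fun i => pairIdx (σ⁻¹ * pairing i * σ)
      left_inv := pairIdx_inv σ
      right_inv := fun i => by simpa using pairIdx_inv σ⁻¹ i })
    (fun σ τ => Equiv.ext fun i => pairIdx_mul σ τ i)

theorem pairPerm_surjective : Function.Surjective pairPerm := by decide +kernel

theorem pairPerm_centralizer : ∀ σ : Equiv.Perm (Fin 4),
    (∀ τ : Equiv.Perm (Fin 4), pairPerm τ = 1 → σ * τ = τ * σ) → pairPerm σ = 1 := by decide +kernel

theorem pairPerm_ker_sq : ∀ τ : Equiv.Perm (Fin 4), pairPerm τ = 1 → τ * τ = 1 := by decide +kernel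

theorem local_of_involves_four (h : Cfsg.Involves (Equiv.Perm (Fin 4)) G) :
    ∃ T : Subgroup G, IsPGroup 2 ↥T ∧ Cfsg.Involves (Equiv.Perm (Fin 3))
      (normalizer (T : Set G) ⧸ (centralizer (T : Set G)).subgroupOf (normalizer (T : Set G))) := by
  classical
  haveI : Fact (Nat.Prime 2) := ⟨Nat.prime_two⟩
  obtain ⟨K, R, hR, ⟨e⟩⟩ := h
  haveI := hR
  let f : K →* Equiv.Perm (Fin 4) := e.toMonoidHom.comp (QuotientGroup.mk' (R.subgroupOf K))
  have hf : Function.Surjective f := e.surjective.comp (QuotientGroup.mk'_surjective _)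
  set g := pairPerm.comp f with hg
  obtain ⟨P⟩ : Nonempty (Sylow 2 g.ker) := inferInstance
  set P₀ := (P : Subgroup g.ker).map g.ker.subtype with hP0
  set T := P₀.map K.subtype with hT
  refine ⟨T, (P.2.map _).map _, ?_⟩
  -- `P` covers the four-group
  have hcov : ∀ τ, pairPerm τ = 1 → ∃ p ∈ P₀, f p = τ := by
    let f' : g.ker →* pairPerm.ker := (f.comp g.ker.subtype).codRestrict _ fun x => x.2
    have hf' : Function.Surjective f' := fun τ => by
      obtain ⟨k, hk⟩ := hf τ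
      exact ⟨⟨k, show pairPerm (f k) = 1 by rw [hk]; exact τ.2⟩, Subtype.ext hk⟩
    intro τ hτ
    have hV : IsPGroup 2 pairPerm.ker := fun x => ⟨1, Subtype.ext (by
      show (x : Equiv.Perm (Fin 4)) ^ 2 ^ 1 = 1
      rw [pow_one, pow_two]; exact pairPerm_ker_sq _ x.2)⟩
    have h2 : (P.mapSurjective hf' : Subgroup pairPerm.ker) = ⊤ := by
      have := (P.mapSurjective hf').is_maximal' (hV.to_subgroup ⊤) le_top
      exact this.symm
    have h3 : (⟨τ, hτ⟩ : pairPerm.ker) ∈ (P.mapSurjective hf' : Subgroup pairPerm.ker) := h2 ▸ mem_top _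
    obtain ⟨p, hp, hpe⟩ := h3
    exact ⟨p, mem_map_of_mem _ hp, congrArg Subtype.val hpe⟩
  set N := normalizer (T : Set G)
  set M := normalizer (P₀ : Set K) with hM
  have hMN : ∀ m ∈ M, ((m : K) : G) ∈ N := fun m hm =>
    le_normalizer_map K.subtype (mem_map_of_mem K.subtype hm)
  let j : M →* N := (K.subtype.comp M.subtype).codRestrict N fun m => hMN m m.2
  let gM : M →* Equiv.Perm (Fin 3) := g.comp M.subtype
  have hgM : Function.Surjective gM := by
    intro σ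
    obtain ⟨ρ, rfl⟩ := pairPerm_surjective σ
    obtain ⟨k, rfl⟩ := hf ρ
    have h1 : k ∈ M ⊔ g.ker := (Sylow.normalizer_sup_eq_top P) ▸ mem_top k
    obtain ⟨m, hm, z, hz, rfl⟩ := (Cfsg.Lib.Coprime.mem_sup_of_le_normalizer'
      (le_normalizer_of_normal : M ≤ normalizer (g.ker : Set K))).mp (by rwa [sup_comm] at h1)
    refine ⟨⟨m, hm⟩, ?_⟩
    show g m = g (m * z)
    rw [map_mul, show g z = 1 from hz, mul_one]
  set π := QuotientGroup.mk' ((centralizer (T : Set G)).subgroupOf N)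
  have hker : (π.comp j).ker ≤ gM.ker := by
    intro m hm
    have h1 : ((m : K) : G) ∈ centralizer (T : Set G) := mem_subgroupOf.mp ((QuotientGroup.eq_one_iff (j m)).mp hm)
    refine pairPerm_centralizer (f (m : K)) fun τ hτ => ?_
    obtain ⟨p, hp, rfl⟩ := hcov τ hτ
    rw [← map_mul, ← map_mul]
    exact congrArg f (Subtype.ext (mem_centralizer_iff.mp h1 _ (mem_map_of_mem K.subtype hp)).symm)
  have hs : Function.Surjective (π.comp j).rangeRestrict := MonoidHom.rangeRestrict_surjective _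
  let lift : (π.comp j).range →* Equiv.Perm (Fin 3) :=
    ((π.comp j).rangeRestrict.liftOfSurjective hs) ⟨gM, by rw [MonoidHom.ker_rangeRestrict]; exact hker⟩
  have hlift : Function.Surjective lift := fun σ => by
    obtain ⟨m, rfl⟩ := hgM σ
    exact ⟨_, MonoidHom.liftOfRightInverse_comp_apply _ _ _ ⟨gM, by rw [MonoidHom.ker_rangeRestrict]; exact hker⟩ m⟩
  exact Cfsg.Lib.QdFree.involves_of_injective (π.comp j).range.subtype_injective
    (Cfsg.Lib.QuadPair.involves_of_surjective hlift (involves_self _))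

end Cfsg.Lib.Sfour
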