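import Cfsg.Agent.Components.Sfour.Section
import Cfsg.Agent.Components.Control.WeakFinal
import Cfsg.Agent.Fusion.GTFamily
import Cfsg.Agent.PGroups.Basic
import Cfsg.Agent.Coprime.Sylow

/-!
`S₄`-free groups: a central element is fixed when the Thompson subgroup is not in `O₂`.
-/

set_option autoImplicit false
set_option linter.style.haveILetI false
set_option linter.unusedSectionVars false

namespace Cfsg.Lib.Sfour

open Subgroup
open Cfsg.Lib.KInf (zc)

universe u

variable {G : Type u} [Group G] [Finite G]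

local instance : Fact (Nat.Prime 2) := ⟨Nat.prime_two⟩

/-- a proper subgroup of an abelian `2`-group lies in one of index two -/
theorem exists_index_two {A D : Subgroup G} (hA : IsPGroup 2 A) (hD : ¬ A ≤ D) :
    ∃ B : Subgroup G, B ≤ A ∧ A ⊓ D ≤ B ∧ 2 * Nat.card B = Nat.card A ∧
      (∃ a ∈ A, a ∉ B) ∧ ∀ a ∈ A, ∀ a' ∈ A, a ∉ B → a' ∉ B → a * a' ∈ B := by
  have hne : (A ⊓ D).subgroupOf A ≠ ⊤ := fun h => hD ((subgroupOf_eq_top.mp h).trans inf_le_right)
  obtain ⟨M, hM, hle⟩ := (eq_top_or_exists_le_coatom _).resolve_left hne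
  obtain ⟨-, hidx⟩ := Cfsg.Lib.PGroups.coatom_normal_index hA hM
  refine ⟨M.map A.subtype, map_subtype_le M, fun x hx => ⟨⟨x, hx.1⟩, hle hx, rfl⟩, ?_, ?_, ?_⟩
  · rw [card_map_of_injective A.subtype_injective, ← hidx, mul_comm, card_mul_index]
  · obtain ⟨a, -, ha⟩ := SetLike.exists_of_lt (lt_top_iff_ne_top.mpr hM.1)
    exact ⟨a, a.2, fun ⟨b, hb, e⟩ => ha ((show b = a from Subtype.ext e) ▸ hb)⟩
  · intro a ha a' ha' hna hna'
    exact ⟨⟨a, ha⟩ * ⟨a', ha'⟩, (mul_mem_iff_of_index_two hidx).mpr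
      (iff_of_false (fun h => hna ⟨_, h, rfl⟩) (fun h => hna' ⟨_, h, rfl⟩)), rfl⟩

/-- the product over a set of cosets invariant under an offender -/
theorem prod_eq_one_of_offender {M W : Subgroup G} [W.Normal] {Ω : Type u} [CommGroup Ω] [Fintype (G ⧸ M)]
    (ι : Ω →* G) (hι : Function.Injective ι) (hW : ∀ z, ι z ∈ W) (hsq : ∀ z : Ω, z * z = 1)
    (F : G ⧸ M → Ω) (hF : ∀ (t : G) (y : G ⧸ M), ι (F (t • y)) = t * ι (F y) * t⁻¹)
    {A B : Subgroup G} (hBA : B ≤ A) (hAc : IsMulCommutative A) {a : G} (ha : a ∈ A) (ha2 : a * a ∈ B)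
    (O : Finset (G ⧸ M)) (hO : ∀ y ∈ O, ∀ l ∈ A, l • y ∈ O)
    (hfree : ∀ y ∈ O, ∀ b ∈ B, (b * a) • y ≠ y)
    (hfix : ∀ n ∈ W, n ^ 2 = 1 → (∀ b ∈ B, b * n * b⁻¹ = n) → a * n * a⁻¹ = n) :
    ∏ y ∈ O, F y = 1 := by
  classical
  let q : G ⧸ M → MulAction.orbitRel.Quotient B (G ⧸ M) := fun y => Quotient.mk'' y
  have hqb : ∀ (b : G) (hb : b ∈ B) (y : G ⧸ M), q (b • y) = q y := fun b hb y =>
    Quotient.sound' (MulAction.orbitRel_apply.mpr ⟨⟨b, hb⟩, rfl⟩)
  have hcomm : ∀ x ∈ A, ∀ y ∈ A, x * y = y * x := fun x hx y hy =>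
    haveI := hAc
    congrArg Subtype.val (mul_comm' (⟨x, hx⟩ : A) ⟨y, hy⟩)
  have hrel : ∀ y y' : G ⧸ M, q y = q y' → ∃ b ∈ B, b • y' = y := fun y y' h => by
    have h1 := MulAction.orbitRel_apply.mp (Quotient.exact' h)
    obtain ⟨⟨b, hb⟩, e⟩ := h1
    exact ⟨b, hb, e⟩
  let σ : MulAction.orbitRel.Quotient B (G ⧸ M) → MulAction.orbitRel.Quotient B (G ⧸ M) :=
    Quotient.map' (a • ·) fun y y' h => by
      obtain ⟨⟨b, hb⟩, e⟩ := MulAction.orbitRel_apply.mp h
      refine MulAction.orbitRel_apply.mpr ⟨⟨b, hb⟩, ?_⟩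
      show b • a • y' = a • y
      rw [← mul_smul, hcomm b (hBA hb) a ha, mul_smul]
      exact congrArg _ e
  have hσ : ∀ y, σ (q y) = q (a • y) := fun y => rfl
  rw [← Finset.prod_fiberwise_of_maps_to (t := O.image q) (g := q) (fun y hy => Finset.mem_image_of_mem _ hy)]
  set N := fun o => ∏ y ∈ O.filter (fun y => q y = o), F y with hN
  have hNfix : ∀ o, ∀ b ∈ B, b * ι (N o) * b⁻¹ = ι (N o) := by
    intro o b hb
    show MulAut.conj b (ι (N o)) = _
    have h1 : (MulAut.conj b).toMonoidHom (ι (N o)) = ι (N o) := by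
      show ((MulAut.conj b).toMonoidHom.comp ι) (N o) = _
      have h2 : N o = ∏ y ∈ O.filter (fun y => q y = o), F (b • y) := by
        refine Finset.prod_nbij' (fun y => b⁻¹ • y) (fun y => b • y) ?_ ?_ ?_ ?_ ?_
        · intro y hy
          rw [Finset.mem_filter] at hy ⊢
          exact ⟨hO y hy.1 _ (hBA (inv_mem hb)), (hqb _ (inv_mem hb) y).trans hy.2⟩
        · intro y hy
          rw [Finset.mem_filter] at hy ⊢
          exact ⟨hO y hy.1 _ (hBA hb), (hqb _ hb y).trans hy.2⟩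
        · intro y _; simp
        · intro y _; simp
        · intro y _; simp
      have h3 : ∀ s : Finset (G ⧸ M), ((MulAut.conj b).toMonoidHom.comp ι) (∏ y ∈ s, F y) =
          ι (∏ y ∈ s, F (b • y)) := by
        intro s
        induction s using Finset.induction_on with
        | empty => simp
        | insert y s hy ih =>
          rw [Finset.prod_insert hy, Finset.prod_insert hy, map_mul, map_mul, ih]
          congr 1
          exact (hF b y).symm
      rw [h3, ← h2]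
    exact h1
  have hNa : ∀ o, N (σ o) = N o := by
    intro o
    refine hι ?_
    have h3 : ∀ s : Finset (G ⧸ M), a * ι (∏ y ∈ s, F y) * a⁻¹ = ι (∏ y ∈ s, F (a • y)) := by
      intro s
      induction s using Finset.induction_on with
      | empty => simp
      | insert y s hy ih =>
        rw [Finset.prod_insert hy, Finset.prod_insert hy, map_mul, map_mul, hF a y, ← ih]
        group
    have h4 : N (σ o) = ∏ y ∈ O.filter (fun y => q y = o), F (a • y) := by
      refine Finset.prod_nbij' (fun y => a⁻¹ • y) (fun y => a • y) ?_ ?_ ?_ ?_ ?_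
      · intro y hy
        rw [Finset.mem_filter] at hy ⊢
        refine ⟨hO y hy.1 _ (inv_mem ha), ?_⟩
        have h5 : σ (σ (q (a⁻¹ • y))) = σ (σ o) := by
          rw [hσ, smul_inv_smul, hy.2]
        have hinv : ∀ z, σ (σ (q z)) = q z := fun z => by
          rw [hσ, hσ, ← mul_smul]; exact hqb _ ha2 z
        obtain ⟨z, rfl⟩ := Quotient.mk''_surjective o
        rwa [hinv, hinv] at h5
      · intro y hy
        rw [Finset.mem_filter] at hy ⊢
        exact ⟨hO y hy.1 _ ha, by rw [← hσ, hy.2]⟩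
      · intro y _; simp
      · intro y _; simp
      · intro y _; simp
    rw [h4, ← h3]
    exact hfix _ (hW _) (by rw [pow_two, ← map_mul, hsq, map_one]) (hNfix o)
  refine Finset.prod_involution (fun o _ => σ o) (fun o _ => ?_) (fun o ho _ => ?_) (fun o ho => ?_) (fun o ho => ?_)
  · show N o * N (σ o) = 1
    rw [hNa, hsq]
  · obtain ⟨y, hy, rfl⟩ := Finset.mem_image.mp ho
    intro h
    rw [hσ] at h
    obtain ⟨b, hb, e⟩ := hrel _ _ h.symm
    exact hfree y hy b hb (by rw [mul_smul]; exact e)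
  · obtain ⟨y, hy, rfl⟩ := Finset.mem_image.mp ho
    rw [hσ]
    exact Finset.mem_image_of_mem _ (hO y hy a ha)
  · obtain ⟨y, hy, rfl⟩ := Finset.mem_image.mp ho
    rw [hσ, hσ, ← mul_smul]
    exact hqb _ ha2 y

/-- the norm argument for offenders -/
theorem central_of_family (S : Sylow 2 G) {W : Subgroup G} [hWn : W.Normal] (hWp : IsPGroup 2 W)
    (hWc : ∀ a ∈ W, ∀ b ∈ W, a * b = b * a) {𝒜 : Set (Subgroup G)}
    (hconj : ∀ g : G, ∀ A ∈ 𝒜, A.map (MulAut.conj g).toMonoidHom ∈ 𝒜)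
    (hAc : ∀ A ∈ 𝒜, IsMulCommutative A)
    (hprop : ∀ A ∈ 𝒜, ∀ B : Subgroup G, B ≤ A → 2 * Nat.card B = Nat.card A → ∀ n ∈ W, n ^ 2 = 1 →
      (∀ b ∈ B, b * n * b⁻¹ = n) → ∀ a ∈ A, a * n * a⁻¹ = n)
    {x : G} (hx : x ∈ W)
    (hfix : ∀ m ∈ normalizer ((sSup {A | A ∈ 𝒜 ∧ A ≤ (S : Subgroup G)} : Subgroup G) : Set G), m * x * m⁻¹ = x) :
    ∀ g : G, g * x * g⁻¹ = x := by
  classical
  set L := sSup {A | A ∈ 𝒜 ∧ A ≤ (S : Subgroup G)}
  have hLS : L ≤ (S : Subgroup G) := sSup_le fun A hA => hA.2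
  set M := normalizer (L : Set G) with hMdef
  have hSM : (S : Subgroup G) ≤ M := by
    intro s hs
    rw [hMdef, ← Cfsg.Lib.Transfer.map_conj_eq_self_iff]
    refine eq_of_le_of_card_ge ?_ (Cfsg.Lib.Transfer.card_map_conj L s).ge
    rw [map_le_iff_le_comap]
    exact sSup_le fun A hA => map_le_iff_le_comap.mp (le_sSup ⟨hconj s A hA.1,
      (map_mono hA.2).trans (Cfsg.Lib.Transfer.map_conj_eq_self_iff.mpr (le_normalizer hs)).le⟩)
  letI : CommGroup W :=
    { (inferInstance : Group W) with mul_comm := fun a b => Subtype.ext (hWc _ a.2 _ b.2) }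
  letI : Fintype (G ⧸ M) := Fintype.ofFinite _
  suffices key : ∀ j : ℕ, ∀ z : G, z ∈ W → z ^ 2 ^ j = 1 → (∀ m ∈ M, m * z * m⁻¹ = z) → ∀ g : G, g * z * g⁻¹ = z by
    obtain ⟨j, hj⟩ := hWp ⟨x, hx⟩
    exact key j x hx (congrArg Subtype.val hj) hfix
  intro j
  induction j with
  | zero => intro z _ hz _ g; rw [pow_zero, pow_one] at hz; simp [hz]
  | succ j ih =>
  intro z hz hzj hzfix g₁
  let c : G ⧸ M → W := fun y => ⟨y.out * z * y.out⁻¹, hWn.conj_mem z hz _⟩
  have hc : ∀ t : G, ((c (QuotientGroup.mk t) : W) : G) = t * z * t⁻¹ := fun t => by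
    obtain ⟨m, hm⟩ := QuotientGroup.mk_out_eq_mul M t
    show (QuotientGroup.mk t : G ⧸ M).out * z * (QuotientGroup.mk t : G ⧸ M).out⁻¹ = _
    rw [hm, show t * (m : G) * z * (t * (m : G))⁻¹ = t * ((m : G) * z * (m : G)⁻¹) * t⁻¹ by group, hzfix m m.2]
  have hct : ∀ (t : G) (y : G ⧸ M), ((c (t • y) : W) : G) = t * (c y : G) * t⁻¹ := by
    intro t y
    obtain ⟨s, rfl⟩ := QuotientGroup.mk_surjective y
    show ((c (QuotientGroup.mk (t * s)) : W) : G) = _
    rw [hc, hc]
    group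
  set ν : W := ∏ y : G ⧸ M, c y
  have hν : ∀ g : G, g * (ν : G) * g⁻¹ = ν := by
    intro g
    have h1 : MulAut.conjNormal (H := W) g ν = ν := by
      show (MulAut.conjNormal (H := W) g).toMonoidHom (∏ y : G ⧸ M, c y) = _
      rw [map_prod]
      refine Fintype.prod_equiv (MulAction.toPerm g) _ _ fun y => Subtype.ext ?_
      show ((MulAut.conjNormal g (c y) : W) : G) = c (g • y)
      rw [MulAut.conjNormal_apply, hct]
    have h2 := congrArg Subtype.val h1
    rwa [MulAut.conjNormal_apply] at h2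
  set O₀ := Finset.univ.erase (QuotientGroup.mk 1 : G ⧸ M)
  set r : W := ∏ y ∈ O₀, c y
  have hνr : c (QuotientGroup.mk 1) * r = ν := Finset.mul_prod_erase _ _ (Finset.mem_univ _)
  have hr : r ^ 2 ^ j = 1 := by
    rw [← Finset.prod_pow]
    let W2 : Subgroup W :=
      { carrier := {w | w * w = 1}
        one_mem' := one_mul 1
        mul_mem' := fun {a b} ha hb => by
          show a * b * (a * b) = 1
          rw [mul_mul_mul_comm, show a * a = 1 from ha, show b * b = 1 from hb, one_mul]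
        inv_mem' := fun {a} ha => by
          show a⁻¹ * a⁻¹ = 1
          rw [← mul_inv_rev, show a * a = 1 from ha, inv_one] }
    let F : G ⧸ M → W2 := fun y => ⟨c y ^ 2 ^ j, by
      show c y ^ 2 ^ j * c y ^ 2 ^ j = 1
      rw [← pow_add, ← two_mul, ← pow_succ']
      refine Subtype.ext ?_
      obtain ⟨s, rfl⟩ := QuotientGroup.mk_surjective y
      rw [SubgroupClass.coe_pow, hc, conj_pow, hzj, mul_one, mul_inv_cancel, OneMemClass.coe_one]⟩
    suffices h : ∏ y ∈ O₀, F y = 1 by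
      have := congrArg W2.subtype h
      rwa [map_prod, map_one] at this
    -- orbit by orbit
    rw [← Finset.prod_fiberwise_of_maps_to
      (t := O₀.image (fun y => (Quotient.mk'' y : MulAction.orbitRel.Quotient L (G ⧸ M))))
      (g := fun y => (Quotient.mk'' y : MulAction.orbitRel.Quotient L (G ⧸ M)))
      (fun y hy => Finset.mem_image_of_mem _ hy)]
    refine Finset.prod_eq_one fun o ho => ?_
    obtain ⟨y₀, hy₀, rfl⟩ := Finset.mem_image.mp ho
    set O := O₀.filter (fun y => (Quotient.mk'' y : MulAction.orbitRel.Quotient L (G ⧸ M)) = Quotient.mk'' y₀)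
    set St := MulAction.stabilizer L y₀
    have hnotfix : ∀ y : G ⧸ M, (∀ l ∈ L, l • y = y) → y = QuotientGroup.mk 1 := by
      intro y hy
      obtain ⟨t, rfl⟩ := QuotientGroup.mk_surjective y
      have hLM : L.map (MulAut.conj t⁻¹).toMonoidHom ≤ M := by
        rintro _ ⟨l, hl, rfl⟩
        have h2 : (QuotientGroup.mk (l * t) : G ⧸ M) = QuotientGroup.mk t := hy l hl
        have h3 := QuotientGroup.eq.mp h2.symm
        show t⁻¹ * l * t⁻¹⁻¹ ∈ M
        rwa [inv_inv, mul_assoc]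
      obtain ⟨R, hR⟩ := (((S.2.to_le hLS).map _).comap_subtype (K := M) :
        IsPGroup 2 ((L.map (MulAut.conj t⁻¹).toMonoidHom).subgroupOf M)).exists_le_sylow
      obtain ⟨m, hm⟩ := MulAction.exists_smul_eq M R (S.subtype hSM)
      have hmt : (m : G) * t⁻¹ ∈ M := by
        show (m : G) * t⁻¹ ∈ normalizer (L : Set G)
        rw [← Cfsg.Lib.Transfer.map_conj_eq_self_iff]
        refine eq_of_le_of_card_ge ?_ (Cfsg.Lib.Transfer.card_map_conj L _).ge
        rw [map_le_iff_le_comap]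
        refine sSup_le fun A hA => map_le_iff_le_comap.mp (le_sSup ⟨hconj _ A hA.1, ?_⟩)
        rintro _ ⟨g, hg, rfl⟩
        have hx : t⁻¹ * g * t ∈ L.map (MulAut.conj t⁻¹).toMonoidHom := ⟨g, (le_sSup hA : A ≤ L) hg, by simp⟩
        have h5 : m * ⟨t⁻¹ * g * t, hLM hx⟩ * m⁻¹ ∈ (S.subtype hSM : Subgroup M) := by
          rw [← hm]
          exact Cfsg.Lib.Transfer.mem_conj_sylow_iff.mpr (hR hx)
        rw [Sylow.coe_subtype, mem_subgroupOf] at h5
        simpa [mul_assoc] using h5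
      refine QuotientGroup.eq.mpr ?_
      rw [mul_one]
      have := mul_mem (inv_mem m.2) hmt
      rwa [inv_mul_cancel_left] at this
    have hSt : St ≠ ⊤ := fun hst => (Finset.mem_erase.mp hy₀).1 (hnotfix y₀ fun l hl => by
      have h1 : (⟨l, hl⟩ : L) ∈ St := by rw [hst]; exact mem_top _
      exact h1)
    obtain ⟨Rm, hRm, hStR⟩ := (eq_top_or_exists_le_coatom St).resolve_left hSt
    haveI : Group.IsNilpotent L := (S.2.to_le hLS).isNilpotent
    haveI : Rm.Normal := NormalizerCondition.normal_of_coatom Rm Group.normalizerCondition_of_isNilpotent hRm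
    obtain ⟨A, ⟨hA, hAS⟩, hAR⟩ : ∃ A ∈ {A | A ∈ 𝒜 ∧ A ≤ (S : Subgroup G)}, ¬ A ≤ Rm.map L.subtype := by
      by_contra h
      push Not at h
      refine hRm.1 (eq_top_iff.mpr fun l _ => ?_)
      obtain ⟨z, hz, e⟩ := (sSup_le h : L ≤ Rm.map L.subtype) l.2
      exact (show z = l from Subtype.ext e) ▸ hz
    have hAL : A ≤ L := le_sSup ⟨hA, hAS⟩
    obtain ⟨B, hBA, hDB, hcard, ⟨a, ha, haB⟩, hmul⟩ := exists_index_two (S.2.to_le hAS) hAR
    have hO : ∀ y ∈ O, ∀ l : L, l • y = y → l ∈ Rm := by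
      intro y hy l hl
      have hrel := Quotient.exact' (Finset.mem_filter.mp hy).2
      rw [MulAction.orbitRel_apply] at hrel
      obtain ⟨k, rfl⟩ := hrel
      have h1 : k⁻¹ * l * k ∈ St := by
        rw [MulAction.mem_stabilizer_iff, mul_smul, mul_smul, hl, inv_smul_smul]
      have h2 := (inferInstance : Rm.Normal).conj_mem _ (hStR h1) k
      simpa [mul_assoc] using h2
    refine prod_eq_one_of_offender (M := M) (W := W) (W.subtype.comp W2.subtype)
      (Subtype.val_injective.comp Subtype.val_injective) (fun w => (w : W).2) (fun w => Subtype.ext w.2) F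
      (fun t y => ?_) hBA (hAc A hA) ha (hmul a ha a ha haB haB) O (fun y hy l hl => ?_) (fun y hy b hb h => ?_)
      (fun n hn hn2 hnB => hprop A hA B hBA hcard n hn hn2 hnB a ha)
    · show ((c (t • y) ^ 2 ^ j : W) : G) = t * ((c y ^ 2 ^ j : W) : G) * t⁻¹
      rw [SubgroupClass.coe_pow, SubgroupClass.coe_pow, hct, conj_pow]
    · rw [Finset.mem_filter, Finset.mem_erase] at hy ⊢
      have hq : (Quotient.mk'' (l • y) : MulAction.orbitRel.Quotient L (G ⧸ M)) = Quotient.mk'' y :=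
        Quotient.sound' (MulAction.orbitRel_apply.mpr ⟨⟨l, hAL hl⟩, rfl⟩)
      refine ⟨⟨fun h => hy.1.1 ?_, Finset.mem_univ _⟩, hq.trans hy.2⟩
      have : y = l⁻¹ • (QuotientGroup.mk 1 : G ⧸ M) := by rw [← h, inv_smul_smul]
      rw [this]
      refine QuotientGroup.eq.mpr ?_
      have hlM : l ∈ M := hMdef ▸ le_normalizer (hAL hl)
      simpa using hlM
    · have h1 := hO y hy ⟨b * a, L.mul_mem (hAL (hBA hb)) (hAL ha)⟩ h
      have h2 : b * a ∈ B := hDB ⟨A.mul_mem (hBA hb) ha, ⟨_, h1, rfl⟩⟩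
      exact haB ((mul_mem_cancel_left hb).mp h2)
  have hr' : ((r : W) : G) ^ 2 ^ j = 1 := congrArg Subtype.val hr
  have hzν : z * (r : G) = ν := by
    have := congrArg Subtype.val hνr
    rw [Subgroup.coe_mul, hc] at this
    simpa using this
  have hrfix : ∀ m ∈ M, m * (r : G) * m⁻¹ = r := by
    intro m hm
    have h1 : (r : G) = z⁻¹ * ν := by rw [← hzν, inv_mul_cancel_left]
    rw [h1, show m * (z⁻¹ * (ν : G)) * m⁻¹ = (m * z * m⁻¹)⁻¹ * (m * (ν : G) * m⁻¹) by group, hzfix m hm, hν m]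
  have h1 : z = (ν : G) * (r : G)⁻¹ := by rw [← hzν, mul_inv_cancel_right]
  rw [h1, show g₁ * ((ν : G) * (r : G)⁻¹) * g₁⁻¹ = (g₁ * (ν : G) * g₁⁻¹) * (g₁ * (r : G) * g₁⁻¹)⁻¹ by group,
    hν g₁, ih _ r.2 hr' hrfix g₁]

/-- `|A ⊓ C(E)| |E| ≤ |A| |C_E(A)|` for abelian subgroups of largest order -/
theorem maxAb_bound {T A E : Subgroup G} (hA : A ∈ Cfsg.Lib.Fusion.maxAb T) (hET : E ≤ T)
    (hE : ∀ e ∈ E, ∀ f ∈ E, e * f = f * e) :
    Nat.card ↥(A ⊓ centralizer (E : Set G)) * Nat.card E ≤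
      Nat.card A * Nat.card ↥(E ⊓ centralizer (A : Set G)) := by
  set D := A ⊓ centralizer (E : Set G)
  have hDN : D ≤ normalizer (E : Set G) :=
    inf_le_right.trans (Cfsg.Lib.Thompson.centralizer_le_normalizer E)
  have h := Cfsg.Lib.Coprime.card_sup_mul_card_inf hDN
  have hcomm : IsMulCommutative ↥(E ⊔ D : Subgroup G) := by
    haveI := hA.2.1
    rw [sup_eq_closure]
    refine Subgroup.isMulCommutative_closure ?_
    rintro x (hx | hx) y (hy | hy)
    · exact hE x hx y hy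
    · exact (mem_centralizer_iff.mp hy.2 x hx)
    · exact (mem_centralizer_iff.mp hx.2 y hy).symm
    · exact congrArg Subtype.val (mul_comm' (⟨x, hx.1⟩ : A) ⟨y, hy.1⟩)
  have hle := hA.2.2 _ (sup_le hET (inf_le_left.trans hA.1)) hcomm
  have hinf : Nat.card ↥(E ⊓ D) ≤ Nat.card ↥(E ⊓ centralizer (A : Set G)) :=
    card_le_of_le (le_inf inf_le_left fun x hx => mem_centralizer_iff.mpr fun a ha => by
      haveI := hA.2.1
      exact congrArg Subtype.val (mul_comm' (⟨a, ha⟩ : A) ⟨x, hx.2.1⟩))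
  rw [mul_comm, ← h]
  exact Nat.mul_le_mul hle hinf

/-- An element of the centre of a Sylow `2`-subgroup is central when it is fixed by all proper
overgroups and the Thompson subgroup is not in `O₂`. -/
theorem central_of_sfour_free (h4 : ¬ Cfsg.Involves (Equiv.Perm (Fin 4)) G) (S : Sylow 2 G) {x : G}
    (hxQ : x ∈ Cfsg.pCore 2 G) (hxS : x ∈ centralizer ((S : Subgroup G) : Set G))
    (hJ : ∃ A ∈ Cfsg.Lib.Fusion.maxAb (S : Subgroup G), ¬ A ≤ Cfsg.pCore 2 G)
    (hM : ∀ M : Subgroup G, (S : Subgroup G) ≤ M → M ≠ ⊤ → M ≤ centralizer ({x} : Set G)) :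
    centralizer ({x} : Set G) = ⊤ := by
  classical
  set Q := Cfsg.pCore 2 G
  have hQp : IsPGroup 2 Q := Cfsg.Lib.Components.isPGroup_pCore 2
  have hQS : Q ≤ (S : Subgroup G) := Cfsg.Lib.Thompson.le_sylow_of_normal hQp S
  set W := zc Q
  haveI hWn : W.Normal := inferInstanceAs (Q ⊓ centralizer (Q : Set G)).Normal
  have hWp : IsPGroup 2 W := hQp.to_le inf_le_left
  have hWc : ∀ a ∈ W, ∀ b ∈ W, a * b = b * a := fun a ha b hb => mem_centralizer_iff.mp hb.2 a ha.1
  have hxW : x ∈ W := ⟨hxQ, centralizer_le hQS hxS⟩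
  set C := centralizer (W : Set G)
  have hQC : Q ≤ C := fun q hq => mem_centralizer_iff.mpr fun w hw => (mem_centralizer_iff.mp hw.2 q hq).symm
  have hCx : C ≤ centralizer ({x} : Set G) := centralizer_le (Set.singleton_subset_iff.mpr hxW)
  let π := QuotientGroup.mk' C
  let R := (Cfsg.pCore 2 (G ⧸ C)).comap π
  haveI : R.Normal := inferInstanceAs ((Cfsg.pCore 2 (G ⧸ C)).comap π).Normal
  by_cases hout : (S : Subgroup G) ⊓ R ≤ Q
  swap
  · refine Cfsg.Lib.Control.eq_top_of_frattini S R ?_ hout hM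
    -- a `2`-power index modulo `C`
    have hCR : C ≤ R := fun c hc => by
      show π c ∈ Cfsg.pCore 2 (G ⧸ C)
      rw [show π c = 1 from (QuotientGroup.eq_one_iff c).mpr hc]; exact one_mem _
    set K := C ⊔ ((S : Subgroup G) ⊓ R)
    have hKR : K ≤ R := sup_le hCR inf_le_right
    refine le_trans ?_ (sup_le hCx (fun s hs => mem_centralizer_singleton_iff.mpr
      (mem_centralizer_iff.mp hxS s hs.1)) : K ≤ centralizer ({x} : Set G))
    obtain ⟨n, hn⟩ := IsPGroup.iff_card.mp (Cfsg.Lib.Components.isPGroup_pCore 2 (G := G ⧸ C))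
    refine relIndex_eq_one.mp (Nat.eq_one_of_dvd_coprimes (a := 2 ^ n)
      (b := ((S : Subgroup G) ⊓ R).relIndex R) ?_ ?_ ?_)
    · refine Nat.Coprime.pow_left _ ((Nat.prime_two.coprime_iff_not_dvd).mpr fun h => S.not_dvd_index ?_)
      rw [inf_relIndex_right] at h
      exact h.trans (Cfsg.Lib.Components.relIndex_dvd_index_of_normal_right (S : Subgroup G) R)
    · have h1 : C.relIndex R = 2 ^ n := by
        rw [← hn, ← map_comap_eq_self_of_surjective (QuotientGroup.mk'_surjective C) (Cfsg.pCore 2 (G ⧸ C)),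
          ← relIndex_ker, QuotientGroup.ker_mk']
      exact h1 ▸ relIndex_dvd_of_le_left R le_sup_left
    · exact relIndex_dvd_of_le_left R le_sup_right
  have hSC : (S : Subgroup G) ⊓ C ≤ Q := le_trans (inf_le_inf_left _ (fun c hc => by
    show π c ∈ Cfsg.pCore 2 (G ⧸ C)
    rw [show π c = 1 from (QuotientGroup.eq_one_iff c).mpr hc]; exact one_mem _)) hout
  have hRC : Cfsg.pCore 2 (G ⧸ C) = ⊥ := by
    by_contra hne
    obtain ⟨n, hn⟩ := IsPGroup.iff_card.mp (Cfsg.Lib.Components.isPGroup_pCore 2 (G := G ⧸ C))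
    obtain ⟨r', hr'⟩ := exists_prime_orderOf_dvd_card' (G := Cfsg.pCore 2 (G ⧸ C)) 2 (by
      rw [hn]
      exact dvd_pow_self 2 fun h0 => hne (eq_bot_of_card_eq _ (by rw [hn, h0, pow_zero])))
    obtain ⟨s, hs⟩ := QuotientGroup.mk'_surjective C (r' : G ⧸ C)
    -- a `2`-element over `r'`
    have hsR : s ∈ R := show π s ∈ _ from hs ▸ r'.2
    have hR1 : R ≤ C := by
      have hS1 : (S : Subgroup G) ⊓ R ≤ C := hout.trans hQC
      refine relIndex_eq_one.mp (Nat.eq_one_of_dvd_coprimes (a := 2 ^ n) (b := ((S : Subgroup G) ⊓ R).relIndex R) ?_ ?_ ?_)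
      · refine Nat.Coprime.pow_left _ ((Nat.prime_two.coprime_iff_not_dvd).mpr fun h => S.not_dvd_index ?_)
        rw [inf_relIndex_right] at h
        exact h.trans (Cfsg.Lib.Components.relIndex_dvd_index_of_normal_right (S : Subgroup G) R)
      · rw [← hn, ← map_comap_eq_self_of_surjective (QuotientGroup.mk'_surjective C) (Cfsg.pCore 2 (G ⧸ C)),
          ← relIndex_ker, QuotientGroup.ker_mk']
      · exact relIndex_dvd_of_le_left R hS1
    have h1 : (r' : G ⧸ C) = 1 := hs ▸ (QuotientGroup.eq_one_iff s).mpr (hR1 hsR)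
    rw [show r' = 1 from Subtype.ext h1, orderOf_one] at hr'
    exact absurd hr' (by norm_num)
  -- the elementary part of `W`
  let E : Subgroup G :=
    { carrier := {w | w ∈ W ∧ w * w = 1}
      one_mem' := ⟨one_mem _, one_mul 1⟩
      mul_mem' := fun {a b} ha hb => ⟨mul_mem ha.1 hb.1, by
        rw [mul_assoc, ← mul_assoc b, hWc b hb.1 a ha.1, mul_assoc a b, hb.2, mul_one, ha.2]⟩
      inv_mem' := fun {a} ha => ⟨inv_mem ha.1, by rw [← mul_inv_rev, ha.2, inv_one]⟩ }
  haveI hEn : E.Normal := ⟨fun e he g => ⟨hWn.conj_mem e he.1 g, by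
    rw [show g * e * g⁻¹ * (g * e * g⁻¹) = g * (e * e) * g⁻¹ by group, he.2]; group⟩⟩
  set CE := centralizer (E : Set G)
  have hCE : CE = C := by
    refine le_antisymm (fun c hc => ?_) (centralizer_le fun e he => he.1)
    have key : ∀ d ∈ CE, (orderOf d).Coprime 2 → d ∈ C := fun d hd hcop => mem_centralizer_iff.mpr fun w hw => by
      haveI : IsMulCommutative W := ⟨⟨fun a b => Subtype.ext (hWc _ a.2 _ b.2)⟩⟩
      exact (Cfsg.Lib.Thompson.commute_of_omega hWp (by rw [normalizer_eq_top W]; exact mem_top d) hcop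
        (fun v hv hv2 => (mem_centralizer_iff.mp hd v ⟨hv, by rw [← pow_two]; exact hv2⟩).symm) w hw).symm
    have hp' : IsPGroup 2 (CE.map π) := by
      rintro ⟨_, d, hd, rfl⟩
      obtain ⟨k, m, hm, hdm⟩ := Nat.exists_eq_pow_mul_and_not_dvd (orderOf_pos d).ne' 2 (by norm_num)
      refine ⟨k, Subtype.ext ?_⟩
      show π d ^ 2 ^ k = 1
      rw [← map_pow]
      refine (QuotientGroup.eq_one_iff _).mpr (key _ (pow_mem hd _) ?_)
      rw [orderOf_pow, hdm, Nat.gcd_eq_right (Dvd.intro m rfl), Nat.mul_div_cancel_left _ (by positivity)]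
      exact (Nat.prime_two.coprime_iff_not_dvd.mpr hm).symm
    haveI : (CE.map π).Normal := (inferInstance : CE.Normal).map π (QuotientGroup.mk'_surjective C)
    have h1 := Cfsg.Lib.Components.le_pCore hp' (mem_map_of_mem π hc)
    rw [hRC, mem_bot] at h1
    exact (QuotientGroup.eq_one_iff c).mp h1
  have hEcore : Cfsg.pCore 2 (G ⧸ CE) = ⊥ := by
    have e := QuotientGroup.quotientMulEquivOfEq hCE
    rw [eq_bot_iff]
    intro z hz
    have h1 : e z ∈ Cfsg.pCore 2 (G ⧸ C) := by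
      haveI : ((Cfsg.pCore 2 (G ⧸ CE)).map e.toMonoidHom).Normal :=
        (inferInstance : (Cfsg.pCore 2 (G ⧸ CE)).Normal).map _ e.surjective
      exact Cfsg.Lib.Components.le_pCore ((Cfsg.Lib.Components.isPGroup_pCore 2).map e.toMonoidHom) (mem_map_of_mem e.toMonoidHom hz)
    rw [hRC, mem_bot] at h1
    exact mem_bot.mpr (e.injective (h1.trans (map_one e).symm))
  -- offenders
  let O : Set (Subgroup G) := {A | IsPGroup 2 A ∧ IsMulCommutative A ∧ ¬ A ≤ Q ∧
    Nat.card ↥(A ⊓ CE) * Nat.card E ≤ Nat.card A * Nat.card ↥(E ⊓ centralizer (A : Set G))}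
  let key : Subgroup G → ℕ := fun A => CE.relIndex A
  obtain ⟨A₀, hA₀, hA₀min⟩ := Set.exists_min_image O key (Set.toFinite _) (by
    obtain ⟨A, hA, hAQ⟩ := hJ
    exact ⟨A, S.2.to_le hA.1, hA.2.1, hAQ, maxAb_bound hA (fun e he => hQS he.1.1)
      fun e he f hf => hWc e he.1 f hf.1⟩)
  have hconjO : ∀ g : G, ∀ A ∈ O, A.map (MulAut.conj g).toMonoidHom ∈ O ∧
      key (A.map (MulAut.conj g).toMonoidHom) = key A := by
    intro g A hA
    set f := (MulAut.conj g).toMonoidHom
    have hf : Function.Injective f := (MulAut.conj g).injective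
    have hmapn : ∀ N : Subgroup G, N.Normal → N.map f = N := fun N hN =>
      Cfsg.Lib.Transfer.map_conj_eq_self_iff.mpr (by rw [normalizer_eq_top_iff.mpr hN]; exact mem_top g)
    refine ⟨⟨hA.1.map f, ?_, fun h => hA.2.2.1 ?_, ?_⟩, ?_⟩
    · haveI := hA.2.1
      exact Subgroup.map_isMulCommutative A f
    · rwa [← map_le_map_iff_of_injective hf, hmapn Q inferInstance]
    · have e1 : A.map f ⊓ CE = (A ⊓ CE).map f := by rw [map_inf _ _ f hf, hmapn CE inferInstance]
      have e2 : (E ⊓ centralizer (A : Set G)).map f ≤ E ⊓ centralizer (A.map f : Set G) := by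
        rintro _ ⟨e, he, rfl⟩
        refine ⟨hmapn E hEn ▸ mem_map_of_mem f he.1, mem_centralizer_iff.mpr ?_⟩
        rintro _ ⟨a, ha, rfl⟩
        rw [← map_mul, ← map_mul, mem_centralizer_iff.mp he.2 a ha]
      rw [e1, card_map_of_injective hf, card_map_of_injective hf]
      refine hA.2.2.2.trans (Nat.mul_le_mul_left _ ?_)
      exact le_trans (card_map_of_injective hf).ge (card_le_of_le e2)
    · show CE.relIndex (A.map f) = CE.relIndex A
      conv_lhs => rw [← hmapn CE inferInstance]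
      exact relIndex_map_map_of_injective _ _ hf
  have hcard : ∀ A : Subgroup G, Nat.card ↥(A ⊓ CE) * key A = Nat.card A := fun A => by
    show _ * CE.relIndex A = _
    rw [← inf_relIndex_left, ← relIndex_bot_left, ← relIndex_bot_left,
      relIndex_mul_relIndex _ _ _ bot_le inf_le_left]
  have hnotCE : ∀ A ∈ O, ¬ A ≤ CE := by
    intro A hA hAC
    rw [hCE] at hAC
    obtain ⟨R', hR'⟩ := hA.1.exists_le_sylow
    obtain ⟨g, hg⟩ := MulAction.exists_smul_eq G R' S
    have h1 : A.map (MulAut.conj g).toMonoidHom ≤ Q := by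
      refine le_trans (le_inf ?_ ?_) hSC
      · rw [← hg, Cfsg.Lib.Transfer.sylow_smul_coe]; exact map_mono hR'
      · refine (map_mono hAC).trans ?_
        rw [Cfsg.Lib.Transfer.map_conj_eq_self_iff.mpr (by rw [normalizer_eq_top C]; exact mem_top g)]
    exact (hconjO g A hA).1.2.2.1 h1
  let 𝒜 : Set (Subgroup G) := {A | A ∈ O ∧ key A = key A₀}
  have hprop : ∀ A ∈ 𝒜, ∀ B : Subgroup G, B ≤ A → 2 * Nat.card B = Nat.card A → ∀ n ∈ W, n ^ 2 = 1 →
      (∀ b ∈ B, b * n * b⁻¹ = n) → ∀ a ∈ A, a * n * a⁻¹ = n := by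
    intro A hA B hBA hB n hn hn2 hnB a ha
    have hnE : n ∈ E := ⟨hn, by rw [← pow_two]; exact hn2⟩
    have hAc : ∀ u ∈ A, ∀ v ∈ A, u * v = v * u := fun u hu v hv =>
      haveI := hA.1.2.1
      congrArg Subtype.val (mul_comm' (⟨u, hu⟩ : A) ⟨v, hv⟩)
    have hfull : ∀ a' ∈ A, a' ∉ B → a' * n * a'⁻¹ = n → a * n * a⁻¹ = n := by
      intro a' ha' haB' h'
      by_cases haB : a ∈ B
      · exact hnB a haB
      · have h2 : (B.subgroupOf A).index = 2 := by
          have h := relIndex_mul_relIndex ⊥ B A bot_le hBA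
          rw [relIndex_bot_left, relIndex_bot_left, ← hB, mul_comm 2] at h
          exact Nat.eq_of_mul_eq_mul_left Nat.card_pos h
        have h3 : a * a'⁻¹ ∈ B := (mul_mem_iff_of_index_two h2 (a := ⟨a, ha⟩) (b := ⟨a'⁻¹, inv_mem ha'⟩)).mpr
          (iff_of_false haB fun h => haB' (inv_mem_iff.mp h))
        have h4 := hnB _ h3
        calc a * n * a⁻¹ = (a * a'⁻¹) * (a' * n * a'⁻¹) * (a * a'⁻¹)⁻¹ := by group
          _ = n := by rw [h', h4]
    by_cases hCB : A ⊓ CE ≤ B
    swap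
    · obtain ⟨a', ha', hna'⟩ := SetLike.not_le_iff_exists.mp hCB
      exact hfull a' ha'.1 hna' (by rw [← mem_centralizer_iff.mp ha'.2 n hnE, mul_inv_cancel_right])
    by_contra hne
    -- `B` is again an offender
    have hBCE : B ⊓ CE = A ⊓ CE := le_antisymm (inf_le_inf_right _ hBA) (le_inf hCB inf_le_right)
    have hnc : n ∈ E ⊓ centralizer (B : Set G) := ⟨hnE, mem_centralizer_iff.mpr fun b hb =>
      mul_inv_eq_iff_eq_mul.mp (hnB b hb)⟩
    have hlt : E ⊓ centralizer (A : Set G) < E ⊓ centralizer (B : Set G) := by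
      refine lt_of_le_of_ne (inf_le_inf_left _ (centralizer_le hBA)) fun e => hne ?_
      rw [← e] at hnc
      rw [mem_centralizer_iff.mp hnc.2 a ha, mul_inv_cancel_right]
    have htwice : 2 * Nat.card ↥(E ⊓ centralizer (A : Set G)) ≤ Nat.card ↥(E ⊓ centralizer (B : Set G)) := by
      obtain ⟨k, hk⟩ := card_dvd_of_le hlt.le
      have hk0 : k ≠ 0 := fun h => Nat.card_pos.ne' (by rw [hk, h, mul_zero])
      have hk1 : k ≠ 1 := fun h => hlt.ne (eq_of_le_of_card_ge hlt.le (by rw [hk, h, mul_one]))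
      rw [hk, mul_comm]
      exact Nat.mul_le_mul_left _ (by omega)
    have hk2 : 2 * key B = key A := by
      have e1 := hcard B
      have e2 := hcard A
      rw [hBCE] at e1
      refine Nat.eq_of_mul_eq_mul_left (Nat.card_pos (α := ↥(A ⊓ CE))) ?_
      rw [e2, ← hB, ← e1]
      ring
    by_cases hBQ : B ≤ Q
    · -- a transvection
      have hBC : B ≤ CE := hBQ.trans (hQC.trans hCE.ge)
      have hk1 : key B = 1 := relIndex_eq_one.mpr hBC
      have h1 : Nat.card ↥(A ⊓ CE) * 2 = Nat.card A := by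
        rw [← hcard A, ← hk2, hk1]
      obtain ⟨a', ha', hna'⟩ := SetLike.not_le_iff_exists.mp (hnotCE A hA.1)
      refine h4 (involves_of_transvection (E := E) (fun e he => he.2) hEcore hna' ?_ ?_)
      · have h2 : (B.subgroupOf A).index = 2 := by
          have h := relIndex_mul_relIndex ⊥ B A bot_le hBA
          rw [relIndex_bot_left, relIndex_bot_left, ← hB, mul_comm 2] at h
          exact Nat.eq_of_mul_eq_mul_left Nat.card_pos h
        exact hBC ((mul_self_mem_of_index_two h2 ⟨a', ha'⟩ : _) : a' * a' ∈ B)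
      · have h3 := hA.1.2.2.2
        rw [← h1, mul_assoc] at h3
        refine (Nat.le_of_mul_le_mul_left h3 Nat.card_pos).trans (Nat.mul_le_mul_left 2 (card_le_of_le ?_))
        exact inf_le_inf_left _ (centralizer_le (Set.singleton_subset_iff.mpr ha'))
    have hBO : B ∈ O := by
      refine ⟨hA.1.1.to_le hBA, ⟨⟨fun u v => Subtype.ext (hAc _ (hBA u.2) _ (hBA v.2))⟩⟩, hBQ, ?_⟩
      rw [hBCE]
      refine hA.1.2.2.2.trans ?_
      rw [← hB, mul_comm 2, mul_assoc]
      exact Nat.mul_le_mul_left _ htwice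
    have h5 := hA₀min B hBO
    have h6 : 0 < key B := Nat.pos_of_ne_zero fun h => Nat.card_pos.ne' (by rw [← hcard B, h, mul_zero])
    rw [← hA.2, ← hk2] at h5
    omega
  -- the normalizer of the offenders in `S`
  set L := sSup {A | A ∈ 𝒜 ∧ A ≤ (S : Subgroup G)}
  have hLS : L ≤ (S : Subgroup G) := sSup_le fun A hA => hA.2
  have hLQ : ¬ L ≤ Q := by
    obtain ⟨R', hR'⟩ := hA₀.1.exists_le_sylow
    obtain ⟨g, hg⟩ := MulAction.exists_smul_eq G R' S
    intro hle
    refine (hconjO g A₀ hA₀).1.2.2.1 (le_trans (le_sSup (show _ ∈ {A | A ∈ 𝒜 ∧ A ≤ (S : Subgroup G)} from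
      ⟨⟨(hconjO g A₀ hA₀).1, (hconjO g A₀ hA₀).2⟩, ?_⟩)) hle)
    rw [← hg, Cfsg.Lib.Transfer.sylow_smul_coe]; exact map_mono hR'
  have hMne : normalizer (L : Set G) ≠ ⊤ := fun htop => hLQ (by
    haveI : L.Normal := normalizer_eq_top_iff.mp htop
    exact Cfsg.Lib.Components.le_pCore (S.2.to_le hLS))
  have hSM : (S : Subgroup G) ≤ normalizer (L : Set G) := by
    intro s hs
    rw [← Cfsg.Lib.Transfer.map_conj_eq_self_iff]
    refine eq_of_le_of_card_ge ?_ (Cfsg.Lib.Transfer.card_map_conj L s).ge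
    rw [map_le_iff_le_comap]
    refine sSup_le fun A hA => map_le_iff_le_comap.mp (le_sSup ⟨⟨(hconjO s A hA.1.1).1,
      (hconjO s A hA.1.1).2.trans hA.1.2⟩, ?_⟩)
    exact (map_mono hA.2).trans (Cfsg.Lib.Transfer.map_conj_eq_self_iff.mpr (le_normalizer hs)).le
  have h := central_of_family S hWp hWc (𝒜 := 𝒜)
    (fun g A hA => ⟨(hconjO g A hA.1).1, (hconjO g A hA.1).2.trans hA.2⟩) (fun A hA => hA.1.2.1) hprop hxW
    (fun m hm => by
      have h1 := mem_centralizer_singleton_iff.mp (hM _ hSM hMne hm)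
      rw [h1, mul_inv_cancel_right])
  rw [eq_top_iff]
  intro g _
  exact mem_centralizer_singleton_iff.mpr (mul_inv_eq_iff_eq_mul.mp (h g))

end Cfsg.Lib.Sfour
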