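import Cfsg.Agent.Components.Sfour.WeakClosure
import Cfsg.Agent.Transfer.Frobenius

/-!
Thompson's normal `p`-complement criterion from weak closure of central elements.
-/

set_option autoImplicit false
set_option linter.style.haveILetI false
set_option linter.unusedSectionVars false

namespace Cfsg.Lib.JWeak

open Subgroup

universe u

variable {G : Type u} [Group G] [Finite G] {p : ℕ} [Fact p.Prime]

/-- if the elements of `Z(S)` are weakly closed, `C(Z(S))` controls fusion in `S` -/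
theorem exists_centralizing (S : Sylow p G) {Z : Subgroup G} (hZS : Z ≤ (S : Subgroup G))
    (hZc : Z ≤ centralizer ((S : Subgroup G) : Set G))
    (hwc : ∀ z ∈ Z, ∀ g : G, g * z * g⁻¹ ∈ (S : Subgroup G) → g * z * g⁻¹ = z)
    {g : G} {A : Subgroup G} (hA : A ≤ (S : Subgroup G)) (hgA : A.map (MulAut.conj g).toMonoidHom ≤ (S : Subgroup G)) :
    ∃ c ∈ centralizer (Z : Set G), ∀ a ∈ A, c * a * c⁻¹ = g * a * g⁻¹ := by
  set K := centralizer (A : Set G)
  have h1 : Z ≤ K := hZc.trans (centralizer_le hA)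
  have h2 : Z.map (MulAut.conj g⁻¹).toMonoidHom ≤ K := by
    rintro _ ⟨z, hz, rfl⟩
    refine mem_centralizer_iff.mpr fun a ha => ?_
    have h3 := mem_centralizer_iff.mp (hZc hz) _ (hgA ⟨a, ha, rfl⟩)
    show a * (g⁻¹ * z * g⁻¹⁻¹) = g⁻¹ * z * g⁻¹⁻¹ * a
    rw [inv_inv]
    calc a * (g⁻¹ * z * g) = g⁻¹ * ((g * a * g⁻¹) * z) * g := by group
      _ = g⁻¹ * (z * (g * a * g⁻¹)) * g := by rw [show (g * a * g⁻¹) * z = z * (g * a * g⁻¹) from h3]
      _ = g⁻¹ * z * g * a := by group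
  obtain ⟨R, hR⟩ := ((S.2.to_le hZS).comap_subtype (K := K)).exists_le_sylow
  obtain ⟨R', hR'⟩ := (((S.2.to_le hZS).map (MulAut.conj g⁻¹).toMonoidHom).comap_subtype (K := K)).exists_le_sylow
  obtain ⟨c, hc⟩ := MulAction.exists_smul_eq K R' R
  obtain ⟨P, hP⟩ := ((R.2.map K.subtype) : IsPGroup p ((R : Subgroup K).map K.subtype)).exists_le_sylow
  obtain ⟨k, hk⟩ := MulAction.exists_smul_eq G P S
  have hin : ∀ r ∈ (R : Subgroup K), k * (r : G) * k⁻¹ ∈ (S : Subgroup G) := fun r hr => by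
    rw [← hk, Cfsg.Lib.Transfer.sylow_smul_coe]
    exact ⟨(r : G), hP ⟨r, hr, rfl⟩, rfl⟩
  refine ⟨g * (c : G)⁻¹, mem_centralizer_iff.mpr fun z hz => ?_, fun a ha => ?_⟩
  · have e1 : k * z * k⁻¹ = z := hwc z hz k (hin ⟨z, h1 hz⟩ (hR hz))
    have hz' : (⟨g⁻¹ * z * g, by
        have := h2 ⟨z, hz, rfl⟩; simpa using this⟩ : K) ∈ (R' : Subgroup K) := hR' (⟨z, hz, by simp⟩ :
          (g⁻¹ * z * g) ∈ Z.map (MulAut.conj g⁻¹).toMonoidHom)
    have e2 := hin _ (hc ▸ (Cfsg.Lib.Transfer.mem_conj_sylow_iff.mpr hz' : c * _ * c⁻¹ ∈ ((c • R' : Sylow p K) : Subgroup K)))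
    have e3 : k * ((c : G) * g⁻¹) * z * (k * ((c : G) * g⁻¹))⁻¹ = k * ((c : G) * (g⁻¹ * z * g) * (c : G)⁻¹) * k⁻¹ := by group
    have e4 := hwc z hz (k * ((c : G) * g⁻¹)) (by rw [e3]; exact e2)
    have e5 : (c : G) * g⁻¹ * z * ((c : G) * g⁻¹)⁻¹ = z := by
      refine mul_left_cancel (a := k) (mul_right_cancel (b := k⁻¹) ?_)
      rw [e1]
      conv_rhs => rw [← e4]
      group
    calc z * (g * (c : G)⁻¹) = g * (c : G)⁻¹ * ((c : G) * g⁻¹ * z * ((c : G) * g⁻¹)⁻¹) := by group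
      _ = _ := by rw [e5]
  · have h3 : (c : G)⁻¹ * a = a * (c : G)⁻¹ := (mem_centralizer_iff.mp (inv_mem c.2) a ha).symm
    calc g * (c : G)⁻¹ * a * (g * (c : G)⁻¹)⁻¹ = g * ((c : G)⁻¹ * a) * (c : G) * g⁻¹ := by group
      _ = _ := by rw [h3]; group

theorem hasNormalPComplement_of_centralizer (S : Sylow p G) {Z : Subgroup G} (hZS : Z ≤ (S : Subgroup G))
    (hZc : Z ≤ centralizer ((S : Subgroup G) : Set G))
    (hwc : ∀ z ∈ Z, ∀ g : G, g * z * g⁻¹ ∈ (S : Subgroup G) → g * z * g⁻¹ = z)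
    (hC : Cfsg.HasNormalPComplement p ↥(centralizer (Z : Set G))) : Cfsg.HasNormalPComplement p G := by
  refine Cfsg.Lib.Transfer.hasNormalPComplement_of_frobenius fun Q hQ g hg hcop => ?_
  obtain ⟨P, hP⟩ := hQ.exists_le_sylow
  obtain ⟨k, hk⟩ := MulAction.exists_smul_eq G P S
  set A := Q.map (MulAut.conj k).toMonoidHom
  have hAS : A ≤ (S : Subgroup G) := by
    rw [← hk, Cfsg.Lib.Transfer.sylow_smul_coe]; exact map_mono hP
  set g' := k * g * k⁻¹
  have hA : A.map (MulAut.conj g').toMonoidHom = A := by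
    show (Q.map (MulAut.conj k).toMonoidHom).map (MulAut.conj g').toMonoidHom = Q.map (MulAut.conj k).toMonoidHom
    conv_rhs => rw [← Cfsg.Lib.Transfer.map_conj_eq_self_iff.mpr hg, map_map]
    rw [map_map]
    congr 1
    ext x
    show g' * (k * x * k⁻¹) * g'⁻¹ = k * (g * x * g⁻¹) * k⁻¹
    simp only [g']; group
  obtain ⟨c, hc, hca⟩ := exists_centralizing S hZS hZc hwc hAS (hA.le.trans hAS)
  have hcA : c ∈ normalizer (A : Set G) := by
    rw [← Cfsg.Lib.Transfer.map_conj_eq_self_iff]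
    refine eq_of_le_of_card_ge ?_ (Cfsg.Lib.Transfer.card_map_conj _ c).ge
    rintro _ ⟨a, ha, rfl⟩
    refine hA.le ⟨a, ha, ?_⟩
    exact (hca a ha).symm
  obtain ⟨u, v, hu, hv, huv, ⟨i, hi⟩, hvp⟩ := Cfsg.Lib.Transfer.exists_pPart p c
  have hvc : ∀ a ∈ A, v * a * v⁻¹ = a := fun a ha => by
    have hvC : v ∈ centralizer (Z : Set G) := zpowers_le.mpr hc hv
    have hvA : v ∈ normalizer (A : Set G) := zpowers_le.mpr hcA hv
    have hAC : A ≤ centralizer (Z : Set G) := le_centralizer_iff.mp (hZc.trans (centralizer_le hAS))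
    have h1 := Cfsg.Lib.Transfer.centralize_of_hasNormalPComplement hC (A.subgroupOf (centralizer (Z : Set G)))
      ((S.2.to_le hAS).comap_subtype) ⟨v, hvC⟩ (mem_normalizer_iff.mpr fun y => mem_normalizer_iff.mp hvA (y : G))
      (by rwa [Subgroup.orderOf_mk])
    have h2 : a * v = v * a := congrArg Subtype.val (mem_centralizer_iff.mp h1 ⟨a, hAC ha⟩ ha)
    rw [← h2, mul_inv_cancel_right]
  -- `g'` and `u` act alike, of coprime orders
  have hiter : ∀ n : ℕ, ∀ a ∈ A, g' ^ n * a * (g' ^ n)⁻¹ = u ^ n * a * (u ^ n)⁻¹ := by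
    intro n
    induction n with
    | zero => intro a _; simp
    | succ n ih =>
      intro a ha
      have h1 : g' * a * g'⁻¹ = u * a * u⁻¹ := by
        rw [← hca a ha, ← huv, show u * v * a * (u * v)⁻¹ = u * (v * a * v⁻¹) * u⁻¹ by group, hvc a ha]
      calc g' ^ (n + 1) * a * (g' ^ (n + 1))⁻¹ = g' ^ n * (g' * a * g'⁻¹) * (g' ^ n)⁻¹ := by rw [pow_succ]; group
        _ = u ^ n * (g' * a * g'⁻¹) * (u ^ n)⁻¹ := ih _ (hA.le ⟨a, ha, rfl⟩)
        _ = _ := by rw [h1, pow_succ]; group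
  refine mem_centralizer_iff.mpr fun q hq => ?_
  have ha : k * q * k⁻¹ ∈ A := ⟨q, hq, rfl⟩
  have hd : (p ^ i).Coprime (orderOf g') := by
    have : orderOf g' = orderOf g := by
      show orderOf ((MulAut.conj k) g) = orderOf g
      exact orderOf_injective (MulAut.conj k).toMonoidHom (MulAut.conj k).injective g
    rw [this]
    exact Nat.Coprime.pow_left i hcop.symm
  obtain ⟨m, hm⟩ := exists_pow_eq_self_of_coprime (x := g') hd
  have h1 := hiter (p ^ i * m) _ ha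
  rw [pow_mul, hm, pow_mul, ← hi, pow_orderOf_eq_one, one_pow, one_mul, inv_one, mul_one] at h1
  have h2 : k * (g * q * g⁻¹) * k⁻¹ = k * q * k⁻¹ := by
    conv_rhs => rw [← h1]
    simp only [g']; group
  have h3 := mul_left_cancel (mul_right_cancel h2)
  rw [mul_inv_eq_iff_eq_mul] at h3
  exact h3.symm

theorem center_mem {N : Subgroup G} (S : Sylow p G) (hSN : (S : Subgroup G) ≤ N) {J : Subgroup G}
    (hN : N = normalizer (J : Set G)) (hJ : J ≤ (S : Subgroup G)) (hpc : Cfsg.HasNormalPComplement p N)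
    {z : G} (hz : z ∈ (S : Subgroup G) ⊓ centralizer ((S : Subgroup G) : Set G)) (hzJ : z ∈ J) :
    z ∈ centralizer (N : Set G) := by
  obtain ⟨M, hM, hc, l, hl⟩ := Cfsg.Lib.Transfer.hasNormalPComplement_iff.mp hpc
  haveI := hM
  have hMz : ∀ y ∈ M, (y : G) * z = z * (y : G) := fun y hy => by
    have h1 := Cfsg.Lib.Transfer.centralize_of_hasNormalPComplement hpc (J.subgroupOf N)
      ((S.2.to_le hJ).comap_subtype) y
      (mem_normalizer_iff.mpr fun x => mem_normalizer_iff.mp ((hN ▸ y.2 : (y : G) ∈ normalizer (J : Set G))) (x : G))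
      ((Cfsg.Lib.Transfer.mem_iff_coprime_orderOf hc hl y).mp hy)
    exact (congrArg Subtype.val (mem_centralizer_iff.mp h1 ⟨z, hSN hz.1⟩ hzJ)).symm
  have hsup := Cfsg.Lib.Transfer.sup_sylow_eq_top (p := p) (N := M) (k := l) hl (S.subtype hSN)
  refine mem_centralizer_iff.mpr fun n hn => ?_
  obtain ⟨y, hy, s, hs, e⟩ := mem_sup_of_normal_left.mp
    (hsup ▸ mem_top (⟨n, hn⟩ : N) : (⟨n, hn⟩ : N) ∈ M ⊔ (S.subtype hSN : Subgroup N))
  have e' : (y : G) * (s : G) = n := congrArg Subtype.val e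
  rw [← e', mul_assoc, show (s : G) * z = z * (s : G) from mem_centralizer_iff.mp hz.2 (s : G) hs, ← mul_assoc,
    hMz y hy, mul_assoc]

end Cfsg.Lib.JWeak
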