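import Cfsg.Agent.Components.Qd.Free
import Cfsg.Agent.Coprime.Basic
import Cfsg.Agent.Quadratic.BaerSuzuki
import Cfsg.Agent.Transfer.Basic
import Cfsg.Agent.Components.ZJ.Reduce

/-!
Transvections on an elementary abelian `2`-group give a section `S₄`.
-/

set_option autoImplicit false
set_option linter.style.haveILetI false
set_option linter.unusedSectionVars false

namespace Cfsg.Lib.Sfour

open Subgroup

variable {G : Type*} [Group G]

theorem involves_self (Y : Type*) [Group Y] : Cfsg.Involves Y Y := by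
  have hbot : ((⊥ : Subgroup Y).subgroupOf (⊤ : Subgroup Y)) = ⊥ := bot_subgroupOf ⊤
  haveI : ((⊥ : Subgroup Y).subgroupOf (⊤ : Subgroup Y)).Normal := hbot ▸ inferInstance
  exact ⟨⊤, ⊥, inferInstance, ⟨((QuotientGroup.quotientMulEquivOfEq hbot).trans
    QuotientGroup.quotientBot).trans Subgroup.topEquiv⟩⟩

theorem perm_fin4_sq : ∀ σ : Equiv.Perm (Fin 4), ∀ i j : Fin 4, i ≠ j → σ i = i → σ j = j → σ * σ = 1 := by
  decide

theorem perm_sq {α : Type*} [Finite α] (h4 : Nat.card α = 4) (σ : Equiv.Perm α) {x y : α} (hxy : x ≠ y)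
    (hx : σ x = x) (hy : σ y = y) : σ * σ = 1 := by
  obtain ⟨e⟩ : Nonempty (α ≃ Fin 4) := ⟨(Finite.equivFin α).trans (finCongr h4)⟩
  have h := perm_fin4_sq (e.permCongr σ) (e x) (e y) (fun h => hxy (e.injective h))
    (by simp [Equiv.permCongr_apply, hx]) (by simp [Equiv.permCongr_apply, hy])
  refine Equiv.ext fun z => ?_
  have h2 := Equiv.congr_fun h (e z)
  simpa [Equiv.permCongr_apply] using h2

/-- conjugation action of a normalizer -/
def conjPerm (Y : Subgroup G) : normalizer (Y : Set G) →* Equiv.Perm Y :=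
  MonoidHom.mk' (fun k =>
    { toFun := fun y => ⟨k * y * (k : G)⁻¹, (mem_normalizer_iff.mp k.2 y).mp y.2⟩
      invFun := fun y => ⟨(k : G)⁻¹ * y * k, by
        have := (mem_normalizer_iff.mp (inv_mem k.2) y).mp y.2
        rwa [inv_inv] at this⟩
      left_inv := fun y => Subtype.ext (by simp [mul_assoc])
      right_inv := fun y => Subtype.ext (by simp [mul_assoc]) })
    (fun k l => Equiv.ext fun y => Subtype.ext (by simp [mul_assoc]))

theorem coe_conjPerm (Y : Subgroup G) (k : normalizer (Y : Set G)) (y : Y) :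
    ((conjPerm Y k y : Y) : G) = k * y * (k : G)⁻¹ := rfl

theorem conjPerm_eq_one {Y : Subgroup G} {k : normalizer (Y : Set G)} :
    conjPerm Y k = 1 ↔ (k : G) ∈ centralizer (Y : Set G) := by
  rw [mem_centralizer_iff, Equiv.ext_iff]
  constructor
  · intro h y hy
    exact (mul_inv_eq_iff_eq_mul.mp (congrArg Subtype.val (h ⟨y, hy⟩))).symm
  · intro h y
    refine Subtype.ext ?_
    show (k : G) * y * (k : G)⁻¹ = y
    rw [← h y y.2, mul_inv_cancel_right]

/-- A four-group with the full automorphism group gives a section `S₄`. -/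
theorem involves_perm4 [Finite G] {u w : G} (hu : u * u = 1) (hw : w * w = 1) (hu1 : u ≠ 1) (hw1 : w ≠ 1)
    (huw : u ≠ w) (hc : u * w = w * u) {a b : G} (hau : a * u * a⁻¹ = u) (haw : a * w * a⁻¹ = u * w)
    (hbw : b * w * b⁻¹ = w) (hbu : b * u * b⁻¹ = u * w) : Cfsg.Involves (Equiv.Perm (Fin 4)) G := by
  classical
  have hui : u⁻¹ = u := inv_eq_of_mul_eq_one_right hu
  have hwi : w⁻¹ = w := inv_eq_of_mul_eq_one_right hw
  let Y : Subgroup G :=
    { carrier := {1, u, w, u * w}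
      one_mem' := Or.inl rfl
      mul_mem' := by
        have e1 : u * (u * w) = w := by rw [← mul_assoc, hu, one_mul]
        have e2 : w * (u * w) = u := by rw [hc, ← mul_assoc, hw, one_mul]
        have e3 : u * w * u = w := by rw [hc, mul_assoc, hu, mul_one]
        have e4 : u * w * w = u := by rw [mul_assoc, hw, mul_one]
        have e5 : u * w * (u * w) = 1 := by rw [mul_assoc, e2, hu]
        intro x y hx hy
        simp only [Set.mem_insert_iff, Set.mem_singleton_iff] at hx hy ⊢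
        rcases hx with hx | hx | hx | hx <;> rcases hy with hy | hy | hy | hy <;> rw [hx, hy] <;>
          simp only [one_mul, mul_one, hu, hw, e1, e2, e3, e4, e5, ← hc, true_or, or_true]
      inv_mem' := by
        intro x hx
        simp only [Set.mem_insert_iff, Set.mem_singleton_iff] at hx ⊢
        rcases hx with hx | hx | hx | hx <;> rw [hx] <;>
          simp only [inv_one, hui, hwi, mul_inv_rev, ← hc, true_or, or_true] }
  have hY : ∀ y : G, y ∈ Y ↔ y = 1 ∨ y = u ∨ y = w ∨ y = u * w := fun y => Iff.rfl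
  have hmu : u ∈ Y := (hY u).mpr (by tauto)
  have hmw : w ∈ Y := (hY w).mpr (by tauto)
  have hmv : u * w ∈ Y := mul_mem hmu hmw
  let yu : Y := ⟨u, hmu⟩
  let yw : Y := ⟨w, hmw⟩
  let yv : Y := ⟨u * w, hmv⟩
  have hv1 : u * w ≠ 1 := fun h => huw (mul_right_cancel (h.trans hw.symm))
  have hvu : u * w ≠ u := fun h => hw1 (mul_eq_left.mp h)
  have hvw : u * w ≠ w := fun h => hu1 (mul_eq_right.mp h)
  have hcase : ∀ y : Y, y = 1 ∨ y = yu ∨ y = yw ∨ y = yv := fun y => by
    rcases (hY y).mp y.2 with h | h | h | h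
    · exact Or.inl (Subtype.ext h)
    · exact Or.inr (Or.inl (Subtype.ext h))
    · exact Or.inr (Or.inr (Or.inl (Subtype.ext h)))
    · exact Or.inr (Or.inr (Or.inr (Subtype.ext h)))
  have hY4 : Nat.card Y = 4 := by
    show Nat.card ({1, u, w, u * w} : Set G) = 4
    rw [Nat.card_coe_set_eq, Set.ncard_insert_of_notMem (by simp [hu1.symm, hw1.symm, hv1.symm]),
      Set.ncard_insert_of_notMem (by simp [huw, hvu.symm]), Set.ncard_pair hvw.symm]
  haveI : Fintype Y := Fintype.ofFinite _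
  have haN : a ∈ normalizer (Y : Set G) := by
    rw [← Cfsg.Lib.Transfer.map_conj_eq_self_iff]
    refine eq_of_le_of_card_ge ?_ (Cfsg.Lib.Transfer.card_map_conj _ a).ge
    rintro _ ⟨y, hy, rfl⟩
    show a * y * a⁻¹ ∈ Y
    rcases (hY y).mp hy with rfl | rfl | rfl | rfl
    · simp
    · rw [hau]; exact hmu
    · rw [haw]; exact hmv
    · rw [show a * (u * w) * a⁻¹ = (a * u * a⁻¹) * (a * w * a⁻¹) by group, hau, haw]; exact mul_mem hmu hmv
  have hbN : b ∈ normalizer (Y : Set G) := by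
    rw [← Cfsg.Lib.Transfer.map_conj_eq_self_iff]
    refine eq_of_le_of_card_ge ?_ (Cfsg.Lib.Transfer.card_map_conj _ b).ge
    rintro _ ⟨y, hy, rfl⟩
    show b * y * b⁻¹ ∈ Y
    rcases (hY y).mp hy with rfl | rfl | rfl | rfl
    · simp
    · rw [hbu]; exact hmv
    · rw [hbw]; exact hmw
    · rw [show b * (u * w) * b⁻¹ = (b * u * b⁻¹) * (b * w * b⁻¹) by group, hbu, hbw]; exact mul_mem hmv hmw
  set N := normalizer (Y : Set G)
  let A : N := ⟨a, haN⟩
  let B : N := ⟨b, hbN⟩
  set φ := conjPerm Y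
  have hφa : φ A = Equiv.swap yv yw := by
    refine Equiv.ext fun y => ?_
    rcases hcase y with rfl | rfl | rfl | rfl
    · rw [Equiv.swap_apply_of_ne_of_ne (fun h => hv1 (congrArg Subtype.val h).symm)
        (fun h => hw1 (congrArg Subtype.val h).symm)]
      exact Subtype.ext (by simp [φ, coe_conjPerm])
    · rw [Equiv.swap_apply_of_ne_of_ne (fun h => hvu (congrArg Subtype.val h).symm)
        (fun h => huw (congrArg Subtype.val h))]
      exact Subtype.ext hau
    · rw [Equiv.swap_apply_right]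
      exact Subtype.ext haw
    · rw [Equiv.swap_apply_left]
      refine Subtype.ext ?_
      show a * (u * w) * a⁻¹ = w
      rw [show a * (u * w) * a⁻¹ = (a * u * a⁻¹) * (a * w * a⁻¹) by group, hau, haw, ← mul_assoc, hu, one_mul]
  have hφb : φ B = Equiv.swap yv yu := by
    refine Equiv.ext fun y => ?_
    rcases hcase y with rfl | rfl | rfl | rfl
    · rw [Equiv.swap_apply_of_ne_of_ne (fun h => hv1 (congrArg Subtype.val h).symm)
        (fun h => hu1 (congrArg Subtype.val h).symm)]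
      exact Subtype.ext (by simp [φ, coe_conjPerm])
    · rw [Equiv.swap_apply_right]
      exact Subtype.ext hbu
    · rw [Equiv.swap_apply_of_ne_of_ne (fun h => hvw (congrArg Subtype.val h).symm)
        (fun h => huw (congrArg Subtype.val h).symm)]
      exact Subtype.ext hbw
    · rw [Equiv.swap_apply_left]
      refine Subtype.ext ?_
      show b * (u * w) * b⁻¹ = u
      rw [show b * (u * w) * b⁻¹ = (b * u * b⁻¹) * (b * w * b⁻¹) by group, hbu, hbw, mul_assoc, hw, mul_one]
  let K : Subgroup N := closure {A, B}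
  have hAK : A ∈ K := subset_closure (Set.mem_insert _ _)
  have hBK : B ∈ K := subset_closure (Set.mem_insert_of_mem _ rfl)
  let ψ : K →* Equiv.Perm Y := φ.comp K.subtype
  let K' : Subgroup K := (Equiv.Perm.sign.comp ψ).ker
  have hsa : Equiv.Perm.sign (ψ ⟨A, hAK⟩) = -1 := by
    show Equiv.Perm.sign (φ A) = -1
    rw [hφa]
    exact Equiv.Perm.sign_swap fun h => hvw (congrArg Subtype.val h)
  have h3 : orderOf (ψ (⟨A, hAK⟩ * ⟨B, hBK⟩)) = 3 := by
    rw [map_mul]
    show orderOf (φ A * φ B) = 3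
    rw [hφa, hφb]
    exact (Equiv.Perm.isThreeCycle_swap_mul_swap_same (fun h => hvw (congrArg Subtype.val h))
      (fun h => hvu (congrArg Subtype.val h)) (fun h => huw (congrArg Subtype.val h).symm)).orderOf
  haveI : Fact (Nat.Prime 3) := ⟨Nat.prime_three⟩
  have R : Sylow 3 K' := default
  have hR : ∃ r : K', r ∈ (R : Subgroup K') ∧ ψ r ≠ 1 := by
    by_contra h
    push Not at h
    let ψ' : K' →* Equiv.Perm Y := ψ.comp K'.subtype
    have hle : (R : Subgroup K') ≤ ψ'.ker := fun r hr => h r hr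
    have hd : ψ'.ker.index ∣ (R : Subgroup K').index := index_dvd_of_le hle
    have hmem : (⟨A, hAK⟩ * ⟨B, hBK⟩ : K) ∈ K' := by
      show Equiv.Perm.sign (ψ _) = 1
      rw [map_mul, map_mul, hsa]
      show -1 * Equiv.Perm.sign (φ B) = 1
      rw [hφb, Equiv.Perm.sign_swap fun h => hvu (congrArg Subtype.val h), neg_mul_neg, one_mul]
    have h4 : 3 ∣ ψ'.ker.index := by
      rw [index_ker]
      have := Subgroup.orderOf_dvd_natCard ψ'.range (x := ψ' ⟨_, hmem⟩) ⟨_, rfl⟩
      rwa [show ψ' ⟨_, hmem⟩ = ψ (⟨A, hAK⟩ * ⟨B, hBK⟩) from rfl, h3] at this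
    exact R.not_dvd_index (h4.trans hd)
  obtain ⟨r, hrR, hr1⟩ := hR
  let RN : Subgroup K := (R : Subgroup K').map K'.subtype
  obtain ⟨m, hm, hsm⟩ : ∃ m ∈ normalizer (RN : Set K), Equiv.Perm.sign (ψ m) = -1 := by
    by_contra h
    push Not at h
    have hle : normalizer (RN : Set K) ≤ K' := fun m hm =>
      ((Int.units_eq_one_or _).resolve_right (h m hm) : Equiv.Perm.sign (ψ m) = 1)
    have := Sylow.normalizer_sup_eq_top R
    rw [sup_eq_right.mpr hle] at this
    have hA : (⟨A, hAK⟩ : K) ∈ K' := this ▸ mem_top _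
    exact absurd ((hsa.symm.trans hA) : (-1 : ℤˣ) = 1) (by decide)
  have hRp : IsPGroup 3 RN := R.2.map _
  let M : Subgroup G := (normalizer (RN : Set K)).map (N.subtype.comp K.subtype)
  have hMN : M ≤ N := by rintro _ ⟨k, -, rfl⟩; exact (k : N).2
  have hrRN : (r : K) ∈ RN := mem_map_of_mem _ hrR
  have hdisj : Y ⊓ M = ⊥ := by
    rw [eq_bot_iff]
    rintro y ⟨hy, k, hk, hky⟩
    rw [mem_bot]
    by_contra hy1
    have hky' : ((k : N) : G) = y := hky
    set d := k * (r : K) * k⁻¹ * (r : K)⁻¹ with hd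
    have hdR : d ∈ RN := mul_mem ((mem_normalizer_iff.mp hk _).mp hrRN) (inv_mem hrRN)
    have hdY : ((d : N) : G) ∈ Y := by
      show ((k : N) : G) * (((r : K) : N) : G) * ((k : N) : G)⁻¹ * (((r : K) : N) : G)⁻¹ ∈ Y
      rw [hky', mul_assoc y, mul_assoc y]
      exact mul_mem hy ((mem_normalizer_iff.mp ((r : K) : N).2 _).mp (inv_mem hy))
    have hd1 : ((d : N) : G) = 1 := by
      obtain ⟨i, hi⟩ := hRp ⟨d, hdR⟩
      have h1 : ((d : N) : G) ^ 3 ^ i = 1 := by
        have := congrArg (fun z : RN => (((z : K) : N) : G)) hi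
        simpa using this
      have h2 : ((d : N) : G) ^ 4 = 1 := by
        have := pow_card_eq_one' (x := (⟨_, hdY⟩ : Y))
        rw [hY4] at this
        exact congrArg Subtype.val this
      exact orderOf_eq_one_iff.mp (Nat.eq_one_of_dvd_coprimes (Nat.Coprime.pow_left i (by norm_num))
        (orderOf_dvd_of_pow_eq_one h1) (orderOf_dvd_of_pow_eq_one h2))
    have hfix : ψ r ⟨y, hy⟩ = ⟨y, hy⟩ := by
      refine Subtype.ext ?_
      show (((r : K) : N) : G) * y * (((r : K) : N) : G)⁻¹ = y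
      have h5 : ((k : N) : G) * (((r : K) : N) : G) * ((k : N) : G)⁻¹ * (((r : K) : N) : G)⁻¹ = 1 := hd1
      rw [hky', mul_inv_eq_one, mul_inv_eq_iff_eq_mul] at h5
      rw [← h5, mul_inv_cancel_right]
    have hfix1 : ψ r 1 = 1 := Subtype.ext (by
      show (((r : K) : N) : G) * ((1 : Y) : G) * (((r : K) : N) : G)⁻¹ = ((1 : Y) : G)
      simp)
    have hsq := perm_sq hY4 (ψ r) (fun h => hy1 (congrArg Subtype.val h).symm) hfix1 hfix
    obtain ⟨i, hi⟩ := R.2 ⟨r, hrR⟩
    have h1 : ψ (r : K) ^ 3 ^ i = 1 := by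
      rw [← map_pow]
      have := congrArg (fun z : (R : Subgroup K') => ψ ((z : K') : K)) hi
      simpa using this
    exact hr1 (orderOf_eq_one_iff.mp (Nat.eq_one_of_dvd_coprimes (Nat.Coprime.pow_left i (by norm_num : Nat.Coprime 3 2))
      (orderOf_dvd_of_pow_eq_one h1) (orderOf_dvd_of_pow_eq_one (by rw [pow_two]; exact hsq))))
  let K1 := Y ⊔ M
  have hcK1 : Nat.card K1 = 4 * Nat.card M := by
    rw [Cfsg.Lib.Coprime.card_sup_of_inf_eq_bot hMN hdisj, hY4]
  -- the image of `M` in the automorphisms of `Y`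
  let φM : M →* Equiv.Perm Y := φ.comp (inclusion hMN)
  have hrM : (((r : K) : N) : G) ∈ M := ⟨(r : K), le_normalizer hrRN, rfl⟩
  have hmM : ((m : N) : G) ∈ M := ⟨m, hm, rfl⟩
  have h6 : 6 ∣ Nat.card φM.range := by
    refine Nat.Coprime.mul_dvd_of_dvd_of_dvd (m := 2) (n := 3) (by norm_num) ?_ ?_
    · have h := Subgroup.orderOf_dvd_natCard φM.range (x := φM ⟨_, hmM⟩) ⟨_, rfl⟩
      refine Dvd.dvd.trans ?_ h
      have h1 : Equiv.Perm.sign (φM ⟨_, hmM⟩) = -1 := hsm
      have := orderOf_map_dvd Equiv.Perm.sign (φM ⟨_, hmM⟩)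
      rwa [h1, orderOf_eq_prime (p := 2) (by decide) (by decide)] at this
    · have h := Subgroup.orderOf_dvd_natCard φM.range (x := φM ⟨_, hrM⟩) ⟨_, rfl⟩
      refine Dvd.dvd.trans ?_ h
      show 3 ∣ orderOf (ψ (r : K))
      obtain ⟨i, hi⟩ := R.2 ⟨r, hrR⟩
      have h1 : ψ (r : K) ^ 3 ^ i = 1 := by
        rw [← map_pow]
        have := congrArg (fun z : (R : Subgroup K') => ψ ((z : K') : K)) hi
        simpa using this
      obtain ⟨j, -, hj⟩ := (Nat.dvd_prime_pow Nat.prime_three).mp (orderOf_dvd_of_pow_eq_one h1)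
      rw [hj]
      exact dvd_pow_self 3 fun h0 => hr1 (orderOf_eq_one_iff.mp (by rw [hj, h0, pow_zero]))
  -- the action on the cosets
  let M' : Subgroup K1 := M.subgroupOf K1
  have hcM : Nat.card M' = Nat.card M := Nat.card_congr (subgroupOfEquivOfLe le_sup_right).toEquiv
  have hq : Nat.card (K1 ⧸ M') = 4 := by
    have h := card_eq_card_quotient_mul_card_subgroup M'
    rw [hcK1, hcM] at h
    exact (Nat.eq_of_mul_eq_mul_right Nat.card_pos h).symm
  let θ := MulAction.toPermHom K1 (K1 ⧸ M')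
  have hker : ∀ k : K1, θ k = 1 → ∃ hk : (k : G) ∈ M, φM ⟨k, hk⟩ = 1 := by
    intro k hk
    have h1 : ∀ z : K1, (QuotientGroup.mk (k * z) : K1 ⧸ M') = QuotientGroup.mk z := fun z =>
      Equiv.ext_iff.mp hk (QuotientGroup.mk z)
    have hkM : (k : G) ∈ M := by
      have h2 := QuotientGroup.eq.mp (h1 1).symm
      rw [inv_one, one_mul, mul_one] at h2
      exact h2
    refine ⟨hkM, conjPerm_eq_one.mpr (mem_centralizer_iff.mpr fun y hy => ?_)⟩
    have h2' : (⟨y, mem_sup_left hy⟩ : K1)⁻¹ * (k * ⟨y, mem_sup_left hy⟩) ∈ M' :=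
      QuotientGroup.eq.mp (h1 ⟨y, mem_sup_left hy⟩).symm
    have h2 : y⁻¹ * ((k : G) * y) ∈ M := h2'
    have h3 : y⁻¹ * ((k : G) * y * (k : G)⁻¹) ∈ Y ⊓ M :=
      ⟨Y.mul_mem (Y.inv_mem hy) ((mem_normalizer_iff.mp (hMN hkM) y).mp hy), by
        have := mul_mem h2 (M.inv_mem hkM)
        simpa [mul_assoc] using this⟩
    rw [hdisj, mem_bot, inv_mul_eq_one, eq_mul_inv_iff_mul_eq] at h3
    exact h3
  have hle : Nat.card θ.ker ≤ Nat.card φM.ker :=
    Nat.card_le_card_of_injective (fun k => ⟨⟨k.1.1, (hker k.1 k.2).1⟩, (hker k.1 k.2).2⟩)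
      fun k l h => Subtype.ext (Subtype.ext (congrArg (fun z : φM.ker => ((z : M) : G)) h))
  have hM6 : 6 * Nat.card φM.ker ≤ Nat.card M := by
    rw [← card_mul_index φM.ker, index_ker, mul_comm 6]
    exact Nat.mul_le_mul_left _ (Nat.le_of_dvd Nat.card_pos h6)
  have hperm : Nat.card (Equiv.Perm (K1 ⧸ M')) = 24 := by
    rw [Nat.card_perm, hq]; decide
  have hsurj : Function.Surjective θ := by
    rw [← MonoidHom.range_eq_top]
    refine eq_top_of_le_card _ ?_
    rw [hperm]
    have h := card_mul_index θ.ker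
    rw [index_ker, hcK1] at h
    have h' : 24 * Nat.card θ.ker ≤ Nat.card θ.range * Nat.card θ.ker := by
      rw [mul_comm (Nat.card θ.range), h]
      omega
    exact Nat.le_of_mul_le_mul_right h' Nat.card_pos
  let e : (K1 ⧸ M') ≃ Fin 4 := (Finite.equivFin _).trans (finCongr hq)
  exact Cfsg.Lib.QdFree.involves_of_injective K1.subtype_injective
    (Cfsg.Lib.QuadPair.involves_of_surjective (f := (Equiv.permCongrHom e).toMonoidHom.comp θ)
      ((Equiv.permCongrHom e).surjective.comp hsurj) (involves_self _))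

/-- transvections generating a non-`2`-group give a section `S₄` -/
theorem involves_of_transvection [Finite G] {E : Subgroup G} [E.Normal]
    (hE : ∀ e ∈ E, e * e = 1) (hcore : Cfsg.pCore 2 (G ⧸ centralizer (E : Set G)) = ⊥)
    {a : G} (ha : a ∉ centralizer (E : Set G)) (ha2 : a * a ∈ centralizer (E : Set G))
    (hidx : Nat.card E ≤ 2 * Nat.card ↥(E ⊓ centralizer ({a} : Set G))) :
    Cfsg.Involves (Equiv.Perm (Fin 4)) G := by
  classical
  set C := centralizer (E : Set G)
  have hinv : ∀ e ∈ E, e⁻¹ = e := fun e he => inv_eq_of_mul_eq_one_right (hE e he)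
  have hcomm : ∀ e ∈ E, ∀ f ∈ E, e * f = f * e := fun e he f hf => by
    have h := hinv _ (mul_mem he hf)
    rw [mul_inv_rev, hinv e he, hinv f hf] at h
    exact h.symm
  have hcent : ∀ c ∈ C, ∀ e ∈ E, c * e * c⁻¹ = e := fun c hc e he => by
    rw [← mem_centralizer_iff.mp hc e he, mul_inv_cancel_right]
  -- every conjugate of `a` is a transvection
  have htv : ∀ g : G, ∃ u ∈ E, u ≠ 1 ∧ (g * a * g⁻¹) * u * (g * a * g⁻¹)⁻¹ = u ∧
      ∀ e ∈ E, (g * a * g⁻¹) * e * (g * a * g⁻¹)⁻¹ = e ∨ (g * a * g⁻¹) * e * (g * a * g⁻¹)⁻¹ = u * e := by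
    suffices h : ∃ u ∈ E, u ≠ 1 ∧ a * u * a⁻¹ = u ∧ ∀ e ∈ E, a * e * a⁻¹ = e ∨ a * e * a⁻¹ = u * e by
      intro g
      obtain ⟨u, hu, hu1, hau, hall⟩ := h
      refine ⟨g * u * g⁻¹, (inferInstance : E.Normal).conj_mem u hu g, fun h => hu1 (conj_eq_one_iff.mp h), ?_,
        fun e he => ?_⟩
      · calc g * a * g⁻¹ * (g * u * g⁻¹) * (g * a * g⁻¹)⁻¹ = g * (a * u * a⁻¹) * g⁻¹ := by group
          _ = _ := by rw [hau]
      · have he' : g⁻¹ * e * g ∈ E := by simpa using (inferInstance : E.Normal).conj_mem e he g⁻¹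
        have e0 : g * a * g⁻¹ * e * (g * a * g⁻¹)⁻¹ = g * (a * (g⁻¹ * e * g) * a⁻¹) * g⁻¹ := by group
        rcases hall _ he' with h | h
        · left; rw [e0, h]; group
        · right; rw [e0, h]; group
    obtain ⟨e₀, he₀, hne₀⟩ : ∃ e ∈ E, a * e * a⁻¹ ≠ e := by
      by_contra h
      push Not at h
      exact ha (mem_centralizer_iff.mpr fun e he => by
        have := h e he; rw [mul_inv_eq_iff_eq_mul] at this; exact this.symm)
    set F := E ⊓ centralizer ({a} : Set G)
    have hF : ∀ e ∈ E, a * e * a⁻¹ = e → e ∈ F := fun e he h => ⟨he, mem_centralizer_singleton_iff.mpr (by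
      rw [mul_inv_eq_iff_eq_mul] at h; exact h.symm)⟩
    have hFix : ∀ e ∈ F, a * e * a⁻¹ = e := fun e he => by
      rw [← mem_centralizer_singleton_iff.mp he.2, mul_inv_cancel_right]
    refine ⟨a * e₀ * a⁻¹ * e₀, mul_mem ((inferInstance : E.Normal).conj_mem _ he₀ a) he₀, fun h => hne₀ ?_, ?_, fun e he => ?_⟩
    · exact (mul_eq_one_iff_eq_inv.mp h).trans (hinv e₀ he₀)
    · have h2 := hcent _ ha2 e₀ he₀
      calc a * (a * e₀ * a⁻¹ * e₀) * a⁻¹ = (a * a * e₀ * (a * a)⁻¹) * (a * e₀ * a⁻¹) := by group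
        _ = e₀ * (a * e₀ * a⁻¹) := by rw [h2]
        _ = _ := hcomm _ he₀ _ ((inferInstance : E.Normal).conj_mem _ he₀ a)
    · by_cases h : a * e * a⁻¹ = e
      · exact Or.inl h
      · right
        have hidx2 : F.relIndex E = 2 := by
          have h1 := relIndex_mul_relIndex ⊥ F E bot_le inf_le_left
          rw [relIndex_bot_left, relIndex_bot_left] at h1
          have h2 : F.relIndex E ≠ 1 := fun h => hne₀ (hFix e₀ (relIndex_eq_one.mp h he₀))
          have h3 : F.relIndex E ≠ 0 := fun h0 => by rw [h0, mul_zero] at h1; exact Nat.card_pos.ne h1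
          have h4 : F.relIndex E ≤ 2 := Nat.le_of_mul_le_mul_left (h1.le.trans (hidx.trans (mul_comm _ _).le)) Nat.card_pos
          omega
        have hmul : e * e₀ ∈ F := by
          have h1 : (⟨e, he⟩ : E) ∉ F.subgroupOf E := fun hm => h (hFix e hm)
          have h2 : (⟨e₀, he₀⟩ : E) ∉ F.subgroupOf E := fun hm => hne₀ (hFix e₀ hm)
          exact (mul_mem_iff_of_index_two hidx2).mpr (iff_of_false h1 h2)
        have h1 := hFix _ hmul
        rw [show a * (e * e₀) * a⁻¹ = (a * e * a⁻¹) * (a * e₀ * a⁻¹) by group, ← eq_mul_inv_iff_mul_eq,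
          hinv _ ((inferInstance : E.Normal).conj_mem _ he₀ a), mul_assoc e e₀] at h1
        rw [h1, hcomm e₀ he₀ _ ((inferInstance : E.Normal).conj_mem _ he₀ a)]
        exact hcomm _ he _ (mul_mem ((inferInstance : E.Normal).conj_mem _ he₀ a) he₀)
  obtain ⟨u, hu, hu1, hau, hall⟩ := htv 1
  simp only [one_mul, inv_one, mul_one] at hau hall
  let π := QuotientGroup.mk' C
  haveI : Fact (Nat.Prime 2) := ⟨Nat.prime_two⟩
  obtain ⟨g', hg'⟩ : ∃ g : G ⧸ C, ¬ IsPGroup 2
      ↥(zpowers (π a) ⊔ (zpowers (π a)).map (MulAut.conj g).toMonoidHom) := by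
    by_contra h
    push Not at h
    obtain ⟨N, hN, hNp, hle⟩ := Cfsg.Lib.BaerSuzuki.baer_suzuki (p := 2) (zpowers (π a)) h
    haveI := hN
    have h1 : π a ∈ Cfsg.pCore 2 (G ⧸ C) := Cfsg.Lib.Components.le_pCore hNp (hle (mem_zpowers _))
    rw [hcore, mem_bot] at h1
    exact ha ((QuotientGroup.eq_one_iff a).mp h1)
  obtain ⟨g, rfl⟩ := QuotientGroup.mk'_surjective C g'
  set b := g * a * g⁻¹ with hb
  obtain ⟨w, hw, hw1, hbw, hallb⟩ := htv g
  -- if one of the two fixes the centre of the other, they generate a `2`-group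
  have key : ∀ a b u w : G, u ∈ E → w ∈ E → a * a ∈ C → b * b ∈ C → a * u * a⁻¹ = u → b * u * b⁻¹ = u →
      (∀ e ∈ E, a * e * a⁻¹ = e ∨ a * e * a⁻¹ = u * e) → (∀ e ∈ E, b * e * b⁻¹ = e ∨ b * e * b⁻¹ = w * e) →
      b * w * b⁻¹ = w → IsPGroup 2 ↥(zpowers (π a) ⊔ zpowers (π b)) := by
    intro a b u w hu hw ha2 hb2 hau hbu hA hB hbw
    have cj : ∀ (g x y : G), g * (x * y) * g⁻¹ = g * x * g⁻¹ * (g * y * g⁻¹) := fun g x y => by group
    set t := a * b with ht
    have htu : t * u * t⁻¹ = u := by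
      rw [ht, show a * b * u * (a * b)⁻¹ = a * (b * u * b⁻¹) * a⁻¹ by group, hbu, hau]
    have htw : t * w * t⁻¹ = w ∨ t * w * t⁻¹ = u * w := by
      rw [ht, show a * b * w * (a * b)⁻¹ = a * (b * w * b⁻¹) * a⁻¹ by group, hbw]
      exact hA w hw
    have hte : ∀ e ∈ E, ∃ y, (y = 1 ∨ y = u ∨ y = w ∨ y = u * w) ∧ t * e * t⁻¹ = y * e := by
      intro e he
      have e0 : t * e * t⁻¹ = a * (b * e * b⁻¹) * a⁻¹ := by rw [ht]; group
      rcases hB e he with h | h <;> rw [e0, h]
      · rcases hA e he with h' | h' <;> rw [h']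
        · exact ⟨1, Or.inl rfl, (one_mul e).symm⟩
        · exact ⟨u, Or.inr (Or.inl rfl), rfl⟩
      · rcases hA _ (mul_mem hw he) with h' | h' <;> rw [h']
        · exact ⟨w, Or.inr (Or.inr (Or.inl rfl)), rfl⟩
        · exact ⟨u * w, Or.inr (Or.inr (Or.inr rfl)), (mul_assoc _ _ _).symm⟩
    have ht2 : ∀ e ∈ E, ∃ v, (v = 1 ∨ v = u) ∧ t ^ 2 * e * (t ^ 2)⁻¹ = v * e := by
      intro e he
      obtain ⟨y, hy, hye⟩ := hte e he
      have e1 : t ^ 2 * e * (t ^ 2)⁻¹ = (t * y * t⁻¹ * y) * e := by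
        calc t ^ 2 * e * (t ^ 2)⁻¹ = t * (t * e * t⁻¹) * t⁻¹ := by rw [pow_two]; group
          _ = t * (y * e) * t⁻¹ := by rw [hye]
          _ = t * y * t⁻¹ * (t * e * t⁻¹) := cj t y e
          _ = _ := by rw [hye, ← mul_assoc]
      refine ⟨_, ?_, e1⟩
      rcases hy with rfl | rfl | rfl | rfl
      · left; group
      · left; rw [htu, hE _ hu]
      · rcases htw with h | h <;> rw [h]
        · left; exact hE _ hw
        · right; rw [mul_assoc, hE _ hw, mul_one]
      · rw [cj, htu]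
        rcases htw with h | h <;> rw [h]
        · left; exact hE _ (mul_mem hu hw)
        · right; rw [mul_assoc u (u * w), hE _ (mul_mem hu hw), mul_one]
    have ht4 : t ^ 4 ∈ C := mem_centralizer_iff.mpr fun e he => by
      have hh : t ^ 4 * e * (t ^ 4)⁻¹ = e := by
        obtain ⟨v, hv, hve⟩ := ht2 e he
        calc t ^ 4 * e * (t ^ 4)⁻¹ = t ^ 2 * (t ^ 2 * e * (t ^ 2)⁻¹) * (t ^ 2)⁻¹ := by
              rw [show (4 : ℕ) = 2 + 2 from rfl, pow_add]; group
          _ = t ^ 2 * (v * e) * (t ^ 2)⁻¹ := by rw [hve]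
          _ = t ^ 2 * v * (t ^ 2)⁻¹ * (v * e) := by rw [cj, hve]
          _ = e := by
            rcases hv with rfl | rfl
            · group
            · rw [show t ^ 2 * v * (t ^ 2)⁻¹ = t * (t * v * t⁻¹) * t⁻¹ by rw [pow_two]; group, htu, htu,
                ← mul_assoc, hE _ hu, one_mul]
      exact (mul_inv_eq_iff_eq_mul.mp hh).symm
    have hA2 : π a * π a = 1 := by rw [← map_mul]; exact (QuotientGroup.eq_one_iff _).mpr ha2
    have hB2 : π b * π b = 1 := by rw [← map_mul]; exact (QuotientGroup.eq_one_iff _).mpr hb2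
    have hT4 : π t ^ 4 = 1 := by rw [← map_pow]; exact (QuotientGroup.eq_one_iff _).mpr ht4
    have hnorm : zpowers (π a) ≤ normalizer (zpowers (π t) : Set (G ⧸ C)) := by
      rw [zpowers_le, ← Cfsg.Lib.Transfer.map_conj_eq_self_iff, MonoidHom.map_zpowers]
      have e : π a * π t * (π a)⁻¹ = (π t)⁻¹ := by
        rw [ht, map_mul, mul_inv_rev, ← mul_assoc (π a), hA2, one_mul,
          inv_eq_of_mul_eq_one_right hB2]
      show zpowers (π a * π t * (π a)⁻¹) = _
      rw [e, zpowers_inv]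
    have hp1 : IsPGroup 2 (zpowers (π a)) := fun x => ⟨1, Subtype.ext (by
      obtain ⟨k, hk⟩ := x.2
      rw [SubgroupClass.coe_pow, OneMemClass.coe_one, pow_one, pow_two, ← hk]
      show π a ^ k * π a ^ k = 1
      rw [← (Commute.refl (π a)).mul_zpow, hA2, one_zpow])⟩
    have hp2 : IsPGroup 2 (zpowers (π t)) := fun x => ⟨2, Subtype.ext (by
      obtain ⟨k, hk⟩ := x.2
      rw [SubgroupClass.coe_pow, OneMemClass.coe_one, ← hk]
      show (π t ^ k) ^ (2 ^ 2) = 1
      rw [← zpow_natCast, ← zpow_mul, mul_comm, zpow_mul, zpow_natCast]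
      norm_num [hT4])⟩
    refine (hp1.to_sup_of_normal_right' hp2 hnorm).to_le (sup_le le_sup_left (zpowers_le.mpr ?_))
    have : π b = π a * π t := by rw [ht, map_mul, ← mul_assoc, hA2, one_mul]
    rw [this]
    exact mul_mem (mem_sup_left (mem_zpowers _)) (mem_sup_right (mem_zpowers _))
  have hb2 : b * b ∈ C := by
    have := (inferInstance : C.Normal).conj_mem _ ha2 g
    rwa [hb, show g * a * g⁻¹ * (g * a * g⁻¹) = g * (a * a) * g⁻¹ by group]
  have hmap : (zpowers (π a)).map (MulAut.conj (π g)).toMonoidHom = zpowers (π b) := by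
    rw [MonoidHom.map_zpowers, hb, map_mul, map_mul, map_inv]
    rfl
  rw [show ((QuotientGroup.mk' C) g) = π g from rfl, hmap] at hg'
  have hbu : b * u * b⁻¹ = w * u := (hallb u hu).resolve_left fun h => hg' (key a b u w hu hw ha2 hb2 hau h hall hallb hbw)
  have haw : a * w * a⁻¹ = u * w := (hall w hw).resolve_left fun h => hg' (by
    rw [sup_comm]
    exact key b a w u hw hu hb2 ha2 hbw h hallb hall hau)
  have huw : u ≠ w := fun h => hu1 (mul_eq_right.mp (show u * w = w by rw [← haw, ← h, hau]))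
  exact involves_perm4 (hE u hu) (hE w hw) hu1 hw1 huw (hcomm u hu w hw) hau haw hbw
    (hbu.trans (hcomm w hw u hu))

end Cfsg.Lib.Sfour
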