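import Cfsg.Agent.Components.Sfour.Section
import Cfsg.Agent.Components.ZJ.Closed
import Cfsg.Agent.Components.ZJ.FullCenter
import Cfsg.Agent.Coprime.SolvableBasics
import Cfsg.Agent.S1324

/-!
Thompson factorization of a solvable `S₄`-free group with a Sylow `2`-subgroup of class at most two.
-/

set_option linter.style.haveILetI false
set_option linter.unusedSectionVars false

namespace Cfsg.Lib.SolvThompson

open Subgroup
open scoped commutatorElement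

universe u

variable {G : Type u} [Group G]

theorem conj_shift {x z t : G} (h1 : x * z * x⁻¹ = t * z) (h2 : x * t * x⁻¹ = t) :
    ∀ n : ℕ, x ^ n * z * (x ^ n)⁻¹ = t ^ n * z := by
  intro n
  induction n with
  | zero => simp
  | succ n ih =>
    have h3 : x * t ^ n * x⁻¹ = t ^ n := by rw [← conj_pow, h2]
    calc x ^ (n + 1) * z * (x ^ (n + 1))⁻¹ = x * (x ^ n * z * (x ^ n)⁻¹) * x⁻¹ := by
          rw [pow_succ']; group
      _ = (x * t ^ n * x⁻¹) * (x * z * x⁻¹) := by rw [ih]; group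
      _ = t ^ (n + 1) * z := by rw [h3, h1, pow_succ]; group

theorem fixed_of_shift {x z : G} (hc : (orderOf (x * z * x⁻¹ * z⁻¹)).Coprime (orderOf x))
    (h2 : x * (x * z * x⁻¹ * z⁻¹) * x⁻¹ = x * z * x⁻¹ * z⁻¹) : x * z * x⁻¹ = z := by
  have h3 := conj_shift (z := z) (t := x * z * x⁻¹ * z⁻¹) (by group) h2 (orderOf x)
  rw [pow_orderOf_eq_one] at h3
  simp only [one_mul, inv_one, mul_one] at h3
  have h4 : (x * z * x⁻¹ * z⁻¹) ^ orderOf x = 1 := mul_eq_right.mp h3.symm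
  have h5 : x * z * x⁻¹ * z⁻¹ = 1 := orderOf_eq_one_iff.mp
    (Nat.eq_one_of_dvd_coprimes hc dvd_rfl (orderOf_dvd_of_pow_eq_one h4))
  exact mul_inv_eq_one.mp h5

theorem coprime_two_odd {t x : G} (ht : ∃ k : ℕ, t ^ 2 ^ k = 1) (hx : Odd (orderOf x)) :
    (orderOf t).Coprime (orderOf x) := by
  obtain ⟨k, hk⟩ := ht
  exact ((Nat.coprime_two_left.mpr hx).pow_left k).coprime_dvd_left (orderOf_dvd_of_pow_eq_one hk)

theorem fixed_of_sq_fixed {x u : G} (hx : Odd (orderOf x)) (h : x * x * u * (x * x)⁻¹ = u) :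
    x * u * x⁻¹ = u := by
  obtain ⟨m, hm⟩ := hx
  have h1 : Commute (x * x) u := mul_inv_eq_iff_eq_mul.mp h
  have h2 : (x * x) ^ (m + 1) = x := by
    rw [← pow_two, ← pow_mul, show 2 * (m + 1) = orderOf x + 1 by omega, pow_succ,
      pow_orderOf_eq_one, one_mul]
  have h3 := h1.pow_left (m + 1)
  rw [h2] at h3
  exact mul_inv_eq_iff_eq_mul.mpr h3

/-- the involutions of the centre of `Q` -/
def omegaZ (Q : Subgroup G) : Subgroup G where
  carrier := {z | z ∈ Q ∧ (∀ q ∈ Q, z * q = q * z) ∧ z * z = 1}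
  one_mem' := ⟨one_mem Q, fun q _ => by simp, by simp⟩
  mul_mem' := by
    rintro a b ⟨ha, ha', ha2⟩ ⟨hb, hb', hb2⟩
    refine ⟨mul_mem ha hb, fun q hq => ?_, ?_⟩
    · rw [mul_assoc, hb' q hq, ← mul_assoc, ha' q hq, mul_assoc]
    · rw [show a * b * (a * b) = a * (b * a) * b by group, hb' a ha,
        show a * (a * b) * b = (a * a) * (b * b) by group, ha2, hb2, one_mul]
  inv_mem' := by
    rintro a ⟨ha, ha', ha2⟩
    rw [inv_eq_of_mul_eq_one_right ha2]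
    exact ⟨ha, ha', ha2⟩

theorem mem_omegaZ {Q : Subgroup G} {z : G} :
    z ∈ omegaZ Q ↔ z ∈ Q ∧ (∀ q ∈ Q, z * q = q * z) ∧ z * z = 1 := Iff.rfl

theorem conj_centerQ {Q : Subgroup G} [hQ : Q.Normal] {z : G} (hz : z ∈ Q ∧ ∀ q ∈ Q, z * q = q * z)
    (g : G) : g * z * g⁻¹ ∈ Q ∧ ∀ q ∈ Q, g * z * g⁻¹ * q = q * (g * z * g⁻¹) := by
  refine ⟨hQ.conj_mem z hz.1 g, fun q hq => ?_⟩
  have h2 : g⁻¹ * q * g ∈ Q := by
    have := hQ.conj_mem q hq g⁻¹
    rwa [inv_inv] at this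
  calc g * z * g⁻¹ * q = g * (z * (g⁻¹ * q * g)) * g⁻¹ := by group
    _ = g * ((g⁻¹ * q * g) * z) * g⁻¹ := by rw [hz.2 _ h2]
    _ = q * (g * z * g⁻¹) := by group

theorem omegaZ_conj {Q : Subgroup G} [Q.Normal] {z : G} (hz : z ∈ omegaZ Q) (g : G) :
    g * z * g⁻¹ ∈ omegaZ Q := by
  obtain ⟨h1, h2⟩ := conj_centerQ ⟨hz.1, hz.2.1⟩ g
  refine ⟨h1, h2, ?_⟩
  rw [show g * z * g⁻¹ * (g * z * g⁻¹) = g * (z * z) * g⁻¹ by group, hz.2.2, mul_one, mul_inv_cancel]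

instance omegaZ_normal (Q : Subgroup G) [Q.Normal] : (omegaZ Q).Normal :=
  ⟨fun _ hz g => omegaZ_conj hz g⟩

/-- the elements inducing central automorphisms on `Q` -/
def stabQ (Q : Subgroup G) [hQ : Q.Normal] : Subgroup G where
  carrier := {g | ∀ q ∈ Q, g * q * g⁻¹ * q⁻¹ ∈ Q ⊓ centralizer (Q : Set G)}
  one_mem' := fun q _ => by simp [one_mem]
  mul_mem' := by
    intro a b ha hb q hq
    have h1 : a * (b * q * b⁻¹ * q⁻¹) * a⁻¹ ∈ Q ⊓ centralizer (Q : Set G) :=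
      Normal.conj_mem inferInstance _ (hb q hq) a
    have h2 := mul_mem h1 (ha q hq)
    rwa [show a * (b * q * b⁻¹ * q⁻¹) * a⁻¹ * (a * q * a⁻¹ * q⁻¹)
      = a * b * q * (a * b)⁻¹ * q⁻¹ by group] at h2
  inv_mem' := by
    intro a ha q hq
    have h1 : a⁻¹ * (a * q * a⁻¹ * q⁻¹)⁻¹ * (a⁻¹)⁻¹ ∈ Q ⊓ centralizer (Q : Set G) :=
      Normal.conj_mem inferInstance _ (inv_mem (ha q hq)) a⁻¹
    rwa [show a⁻¹ * (a * q * a⁻¹ * q⁻¹)⁻¹ * (a⁻¹)⁻¹ = a⁻¹ * q * (a⁻¹)⁻¹ * q⁻¹ by group] at h1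

instance stabQ_normal (Q : Subgroup G) [hQ : Q.Normal] : (stabQ Q).Normal := by
  refine ⟨fun g hg y q hq => ?_⟩
  have hq' : y⁻¹ * q * y ∈ Q := by
    have := hQ.conj_mem q hq y⁻¹
    rwa [inv_inv] at this
  have h1 : y * (g * (y⁻¹ * q * y) * g⁻¹ * (y⁻¹ * q * y)⁻¹) * y⁻¹ ∈ Q ⊓ centralizer (Q : Set G) :=
    Normal.conj_mem inferInstance _ (hg _ hq') y
  rwa [show y * (g * (y⁻¹ * q * y) * g⁻¹ * (y⁻¹ * q * y)⁻¹) * y⁻¹
    = y * g * y⁻¹ * q * (y * g * y⁻¹)⁻¹ * q⁻¹ by group] at h1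

variable [Finite G]

/-- an element of odd order in `stabQ` which is trivial on the involutions of `Z(Q)` lies in `Q` -/
theorem mem_of_fixes_omegaZ {Q : Subgroup G} [hQn : Q.Normal] (hQ : IsPGroup 2 Q)
    (hCQ : centralizer (Q : Set G) ≤ Q) {x : G} (hx : Odd (orderOf x)) (hxK : x ∈ stabQ Q)
    (hfix : ∀ z ∈ omegaZ Q, x * z * x⁻¹ = z) : x ∈ Q := by
  have hpow : ∀ t ∈ Q, ∃ k : ℕ, t ^ 2 ^ k = 1 := fun t ht => by
    obtain ⟨k, hk⟩ := hQ ⟨t, ht⟩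
    exact ⟨k, congrArg Subtype.val hk⟩
  have hcen : ∀ j : ℕ, ∀ z ∈ Q, (∀ q ∈ Q, z * q = q * z) → z ^ 2 ^ j = 1 → x * z * x⁻¹ = z := by
    intro j
    induction j with
    | zero =>
      intro z _ _ hz
      rw [pow_zero, pow_one] at hz
      simp [hz]
    | succ j ih =>
      intro z hz hzc hzj
      have h2 := ih (z * z) (mul_mem hz hz)
        (fun q hq => by rw [mul_assoc, hzc q hq, ← mul_assoc, hzc q hq, mul_assoc])
        (by rw [← pow_two, ← pow_mul, ← pow_succ']; exact hzj)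
      obtain ⟨hw, hwc⟩ := conj_centerQ (g := x) ⟨hz, hzc⟩
      have ht : x * z * x⁻¹ * z⁻¹ ∈ omegaZ Q := by
        refine ⟨mul_mem hw (inv_mem hz), fun q hq => ?_, ?_⟩
        · have hzi : z⁻¹ * q = q * z⁻¹ := by
            rw [inv_mul_eq_iff_eq_mul, ← mul_assoc, hzc q hq, mul_inv_cancel_right]
          rw [mul_assoc, hzi, ← mul_assoc, hwc q hq, mul_assoc]
        · calc x * z * x⁻¹ * z⁻¹ * (x * z * x⁻¹ * z⁻¹)
              = x * z * x⁻¹ * (z⁻¹ * (x * z * x⁻¹)) * z⁻¹ := by group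
            _ = x * z * x⁻¹ * ((x * z * x⁻¹) * z⁻¹) * z⁻¹ := by rw [← hwc z⁻¹ (inv_mem hz)]
            _ = x * (z * z) * x⁻¹ * (z * z)⁻¹ := by group
            _ = 1 := by rw [h2, mul_inv_cancel]
      exact fixed_of_shift (coprime_two_odd (hpow _ ht.1) hx) (hfix _ ht)
  have hall : ∀ q ∈ Q, x * q * x⁻¹ = q := by
    intro q hq
    have ht := mem_inf.mp (hxK q hq)
    obtain ⟨k, hk⟩ := hpow _ ht.1
    exact fixed_of_shift (coprime_two_odd ⟨k, hk⟩ hx)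
      (hcen k _ ht.1 (fun q' hq' => (mem_centralizer_iff.mp ht.2 q' hq').symm) hk)
  exact hCQ (mem_centralizer_iff.mpr fun q hq => (mul_inv_eq_iff_eq_mul.mp (hall q hq)).symm)

/-- the hyperplane and the inverted element of odd order -/
theorem exists_inverted [Group.IsSolvable G] {Q : Subgroup G} [Q.Normal]
    (hQcore : Cfsg.pCore 2 (G ⧸ Q) = ⊥) {B : Subgroup G} (hBK : B ≤ stabQ Q)
    (hB2 : ∀ a ∈ B, a * a = 1) (hBc : ∀ a ∈ B, ∀ b ∈ B, a * b = b * a) (hBQ : ¬ B ≤ Q) :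
    ∃ (H : Subgroup G) (a x : G), H ≤ B ∧ Nat.card B = 2 * Nat.card H ∧ B ⊓ Q ≤ H ∧ a ∈ B ∧
      x ∈ stabQ Q ∧ Odd (orderOf x) ∧ x ∉ Q ∧ a * x * a⁻¹ * x ∈ Q ∧
      ∀ h ∈ H, h * x * h⁻¹ * x⁻¹ ∈ Q := by
  haveI : Fact (Nat.Prime 2) := ⟨Nat.prime_two⟩
  set π := QuotientGroup.mk' Q with hπ
  have hker : ∀ y : G, π y = 1 ↔ y ∈ Q := fun y => QuotientGroup.eq_one_iff y
  set X := Cfsg.pPrimeCore 2 (G ⧸ Q) with hX
  have hXc : (Nat.card X).Coprime 2 := Cfsg.Lib.Components.coprime_card_pPrimeCore 2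
  have hXodd : ¬ 2 ∣ Nat.card X := Nat.prime_two.coprime_iff_not_dvd.mp hXc.symm
  have hFX : Cfsg.fittingSubgroup (G ⧸ Q) ≤ X := by
    rw [Cfsg.Lib.Components.fitting_eq_iSup_pCore]
    refine iSup_le fun q => ?_
    by_cases hq : q.1 = 2
    · rw [hq, hQcore]; exact bot_le
    · haveI := Fact.mk q.2
      exact Cfsg.Lib.Coprime.pCore_le_pPrimeCore Nat.prime_two hq
  have hCX : centralizer (X : Set (G ⧸ Q)) ≤ X :=
    ((centralizer_le (SetLike.coe_subset_coe.mpr hFX)).trans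
      Cfsg.Lib.Coprime.centralizer_fitting_le).trans hFX
  set T := B.map π with hT
  have hTsq : ∀ y ∈ T, y ^ 2 = 1 := by
    rintro _ ⟨b, hb, rfl⟩
    rw [pow_two, ← map_mul, hB2 b hb, map_one]
  have hTe : Cfsg.IsElementaryAbelian 2 T := by
    refine ⟨⟨⟨?_⟩⟩, hTsq⟩
    rintro ⟨_, a, ha, rfl⟩ ⟨_, b, hb, rfl⟩
    refine Subtype.ext ?_
    show π a * π b = π b * π a
    rw [← map_mul, ← map_mul, hBc a ha b hb]
  have hTX : ∀ y ∈ T, y ∈ X → y = 1 := fun y hy hyX => by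
    have h1 : orderOf y ∣ 2 := orderOf_dvd_of_pow_eq_one (hTsq y hy)
    exact orderOf_eq_one_iff.mp (Nat.eq_one_of_dvd_coprimes hXc
      (orderOf_dvd_natCard X hyX) h1)
  have hTC : ¬ X ≤ centralizer (T : Set (G ⧸ Q)) := by
    intro h
    refine hBQ fun b hb => (hker b).mp (hTX _ (mem_map_of_mem π hb) (hCX ?_))
    exact mem_centralizer_iff.mpr fun y hy =>
      (mem_centralizer_iff.mp (h hy) (π b) (mem_map_of_mem π hb)).symm
  obtain ⟨D, hDT, hDi, f, hfX, hfD, hfT⟩ : ∃ D : Subgroup (G ⧸ Q), D ≤ T ∧ D.relIndex T ≤ 2 ∧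
      ∃ f ∈ X, f ∈ centralizer (D : Set (G ⧸ Q)) ∧ f ∉ centralizer (T : Set (G ⧸ Q)) := by
    obtain ⟨f, hf, hf'⟩ := SetLike.not_le_iff_exists.mp hTC
    by_cases hsmall : Nat.card T ≤ 2
    · refine ⟨⊥, bot_le, by rwa [relIndex_bot_left], f, hf, ?_, hf'⟩
      exact mem_centralizer_iff.mpr fun y hy => by simp [mem_bot.mp hy]
    · have h4 : 2 ^ 2 ≤ Nat.card T := by
        obtain ⟨k, hk⟩ := IsPGroup.iff_card.mp (show IsPGroup 2 T from
          fun y => ⟨1, Subtype.ext (by rw [pow_one]; exact hTsq y y.2)⟩)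
        rw [hk] at hsmall ⊢
        refine Nat.pow_le_pow_right two_pos ?_
        by_contra hk2
        exact hsmall (le_trans (Nat.pow_le_pow_right two_pos (show k ≤ 1 by omega)) le_rfl)
      have hgen := Cfsg.Agent.S1324.result 2 T X hTe h4 hXodd le_normalizer_of_normal
      by_contra hno
      push Not at hno
      refine hTC (hgen.le.trans (iSup_le fun B' => ?_))
      intro y hy
      exact hno B'.1 B'.2.1 B'.2.2 y hy.1 hy.2
  obtain ⟨c0, hc0T, hc0⟩ : ∃ c0 ∈ T, c0 * f ≠ f * c0 := by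
    by_contra hno
    push Not at hno
    exact hfT (mem_centralizer_iff.mpr fun y hy => hno y hy)
  obtain ⟨a, haB, rfl⟩ := hc0T
  have hDi2 : D.relIndex T = 2 := by
    have h0 : D.relIndex T ≠ 0 := index_ne_zero_of_finite
    have h1 : D.relIndex T ≠ 1 := fun h =>
      hc0 (mem_centralizer_iff.mp hfD _ (relIndex_eq_one.mp h (mem_map_of_mem π haB)))
    omega
  have hHi : (D.comap π ⊓ B).relIndex B = 2 := by
    rw [inf_relIndex_right, relIndex_comap]; exact hDi2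
  have hcard : Nat.card B = 2 * Nat.card ↥(D.comap π ⊓ B) := by
    have h := relIndex_mul_relIndex ⊥ (D.comap π ⊓ B) B bot_le inf_le_right
    rw [relIndex_bot_left, relIndex_bot_left, hHi] at h
    omega
  obtain ⟨g, rfl⟩ := QuotientGroup.mk'_surjective Q f
  set x1 := g⁻¹ * a * g * a⁻¹ with hx1
  have hx1K : x1 ∈ stabQ Q := by
    have h := (stabQ_normal Q).conj_mem a (hBK haB) g⁻¹
    rw [inv_inv] at h
    exact mul_mem h (inv_mem (hBK haB))
  set c := π x1 with hc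
  have hc' : c = (π g)⁻¹ * (π a * π g * (π a)⁻¹) := by
    rw [hc, hx1, map_mul, map_mul, map_mul, map_inv, map_inv]; group
  have hcX : c ∈ X := by
    rw [hc']
    exact mul_mem (inv_mem hfX) (Normal.conj_mem inferInstance _ hfX _)
  have hc1 : c ≠ 1 := fun h => hc0 (mul_inv_eq_iff_eq_mul.mp (inv_mul_eq_one.mp (hc' ▸ h)).symm)
  have haa : π a * π a = 1 := by rw [← map_mul, hB2 a haB, map_one]
  have hinv : π a * c * (π a)⁻¹ = c⁻¹ := by
    have hai : (π a)⁻¹ = π a := inv_eq_of_mul_eq_one_right haa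
    rw [hc', mul_inv_rev, inv_inv]
    calc π a * ((π g)⁻¹ * (π a * π g * (π a)⁻¹)) * (π a)⁻¹
        = π a * (π g)⁻¹ * (π a)⁻¹ * (π a * π a) * π g * ((π a)⁻¹ * (π a)⁻¹) := by group
      _ = (π a * π g * (π a)⁻¹)⁻¹ * π g := by
          rw [haa, hai, haa, mul_one, mul_one]
          simp only [mul_inv_rev, inv_inv, hai, mul_assoc]
  obtain ⟨k, m, hm, hkm⟩ := Nat.exists_eq_two_pow_mul_odd (orderOf_pos x1).ne'
  have hox : orderOf (x1 ^ 2 ^ k) = m := by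
    rw [orderOf_pow_of_dvd (pow_ne_zero _ two_ne_zero) (hkm ▸ dvd_mul_right _ _), hkm,
      Nat.mul_div_cancel_left _ (by positivity)]
  refine ⟨D.comap π ⊓ B, a, x1 ^ 2 ^ k, inf_le_right, hcard, ?_, haB, pow_mem hx1K _, ?_, ?_, ?_, ?_⟩
  · rintro y ⟨hy, hyQ⟩
    refine ⟨?_, hy⟩
    show π y ∈ D
    rw [(hker y).mpr hyQ]
    exact one_mem D
  · rwa [hox]
  · intro h
    have h1 : c ^ 2 ^ k = 1 := by rw [hc, ← map_pow]; exact (hker _).mpr h
    exact hc1 (orderOf_eq_one_iff.mp (Nat.eq_one_of_dvd_coprimes (hXc.pow_right k)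
      (orderOf_dvd_natCard X hcX) (orderOf_dvd_of_pow_eq_one h1)))
  · refine (hker _).mp ?_
    rw [map_mul, map_mul, map_mul, map_inv, map_pow, ← hc, ← conj_pow, hinv, inv_pow, inv_mul_cancel]
  · rintro h ⟨hhD, hhB⟩
    refine (hker _).mp ?_
    rw [map_mul, map_mul, map_mul, map_inv, map_inv, map_pow, ← hc]
    have e1 : Commute (π h) (π a) := by
      show π h * π a = π a * π h
      rw [← map_mul, ← map_mul, hBc h hhB a haB]
    have e2 : Commute (π h) (π g) := mem_centralizer_iff.mp hfD _ hhD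
    have e3 : Commute (π h) c := by
      rw [hc']
      exact e2.inv_right.mul_right ((e1.mul_right e2).mul_right e1.inv_right)
    rw [(e3.pow_right (2 ^ k)).eq]
    group

/-- the hyperplane centralizes at least four times as many involutions of `Z(Q)` -/
theorem four_card_le (hS4 : ¬ Cfsg.Involves (Equiv.Perm (Fin 4)) G) {Q : Subgroup G} [hQn : Q.Normal]
    (hQ : IsPGroup 2 Q) (hCQ : centralizer (Q : Set G) ≤ Q) {B H : Subgroup G} {a x : G}
    (hHB : H ≤ B) (haB : a ∈ B) (hB2 : ∀ a ∈ B, a * a = 1) (hBc : ∀ a ∈ B, ∀ b ∈ B, a * b = b * a)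
    (hZB : ∀ z ∈ omegaZ Q, ∀ h ∈ B, ∀ k ∈ B, k * (h * z * h⁻¹ * z⁻¹) = h * z * h⁻¹ * z⁻¹ * k)
    (hxK : x ∈ stabQ Q) (hxo : Odd (orderOf x)) (hxQ : x ∉ Q) (hax : a * x * a⁻¹ * x ∈ Q)
    (hHx : ∀ h ∈ H, h * x * h⁻¹ * x⁻¹ ∈ Q) :
    4 * Nat.card ↥(omegaZ Q ⊓ centralizer (B : Set G)) ≤
      Nat.card ↥(omegaZ Q ⊓ centralizer (H : Set G)) := by
  haveI : Fact (Nat.Prime 2) := ⟨Nat.prime_two⟩
  set Z := omegaZ Q with hZdef
  set U := Z ⊓ centralizer (H : Set G) with hU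
  have hcomm : ∀ y ∈ Z, ∀ z ∈ Z, y * z = z * y := fun y hy z hz => hy.2.1 z hz.1
  have hZi : ∀ z ∈ Z, z⁻¹ = z := fun z hz => inv_eq_of_mul_eq_one_right hz.2.2
  have hQZ : ∀ q ∈ Q, ∀ z ∈ Z, q * z * q⁻¹ = z := fun q hq z hz =>
    mul_inv_eq_iff_eq_mul.mpr (hz.2.1 q hq).symm
  have hUinv : ∀ y : G, (∀ h ∈ H, h * y * h⁻¹ * y⁻¹ ∈ Q) → ∀ u ∈ U, y * u * y⁻¹ ∈ U := by
    intro y hy u hu
    refine ⟨omegaZ_conj hu.1 y, mem_centralizer_iff.mpr fun h hh => ?_⟩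
    have e1 : h * u * h⁻¹ = u := mul_inv_eq_iff_eq_mul.mpr (mem_centralizer_iff.mp hu.2 h hh)
    refine mul_inv_eq_iff_eq_mul.mp ?_
    calc h * (y * u * y⁻¹) * h⁻¹
        = h * y * h⁻¹ * y⁻¹ * (y * (h * u * h⁻¹) * y⁻¹) * (h * y * h⁻¹ * y⁻¹)⁻¹ := by group
      _ = y * u * y⁻¹ := by rw [e1, hQZ _ (hy h hh) _ (omegaZ_conj hu.1 y)]
  have hUx : ∀ u ∈ U, x * u * x⁻¹ ∈ U := hUinv x hHx
  have hUxi : ∀ u ∈ U, x⁻¹ * u * x ∈ U := fun u hu => by
    have h1 : ∀ h ∈ H, h * x⁻¹ * h⁻¹ * x⁻¹⁻¹ ∈ Q := fun h hh => by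
      have h2 := hQn.conj_mem _ (inv_mem (hHx h hh)) x⁻¹
      rwa [show x⁻¹ * (h * x * h⁻¹ * x⁻¹)⁻¹ * x⁻¹⁻¹ = h * x⁻¹ * h⁻¹ * x⁻¹⁻¹ by group] at h2
    have h3 := hUinv x⁻¹ h1 u hu
    rwa [inv_inv] at h3
  have hUa : ∀ u ∈ U, a * u * a⁻¹ ∈ U := fun u hu => by
    refine hUinv a (fun h hh => ?_) u hu
    rw [hBc h (hHB hh) a haB]
    simp [one_mem]
  have hmoved : ∃ u ∈ U, x * u * x⁻¹ ≠ u := by
    by_contra hno
    push Not at hno
    refine hxQ (mem_of_fixes_omegaZ hQ hCQ hxo hxK fun z hz => ?_)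
    have ht : x * z * x⁻¹ * z⁻¹ ∈ Z := mul_mem (omegaZ_conj hz x) (inv_mem hz)
    refine fixed_of_shift (coprime_two_odd ⟨1, by rw [pow_one, pow_two]; exact ht.2.2⟩ hxo) (hno _ ?_)
    refine ⟨ht, mem_centralizer_iff.mpr fun h hh => mul_inv_eq_iff_eq_mul.mp ?_⟩
    set s := h * z * h⁻¹ * z⁻¹ with hs
    have hsZ : s ∈ Z := mul_mem (omegaZ_conj hz h) (inv_mem hz)
    have hsU : s ∈ U := ⟨hsZ, mem_centralizer_iff.mpr fun k hk => hZB z hz h (hHB hh) k (hHB hk)⟩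
    have hxz := omegaZ_conj hz x
    have e1 : h * (x * z * x⁻¹) * h⁻¹ = s * (x * z * x⁻¹) := by
      calc h * (x * z * x⁻¹) * h⁻¹
          = h * x * h⁻¹ * x⁻¹ * (x * (h * z * h⁻¹) * x⁻¹) * (h * x * h⁻¹ * x⁻¹)⁻¹ := by group
        _ = x * (h * z * h⁻¹) * x⁻¹ := hQZ _ (hHx h hh) _ (omegaZ_conj (omegaZ_conj hz h) x)
        _ = (x * s * x⁻¹) * (x * z * x⁻¹) := by rw [hs]; group
        _ = s * (x * z * x⁻¹) := by rw [hno s hsU]
    have e2 : h * z * h⁻¹ = s * z := by rw [hs]; group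
    calc h * (x * z * x⁻¹ * z⁻¹) * h⁻¹
        = h * (x * z * x⁻¹) * h⁻¹ * (h * z * h⁻¹)⁻¹ := by group
      _ = s * ((x * z * x⁻¹) * z⁻¹) * s⁻¹ := by rw [e1, e2]; group
      _ = x * z * x⁻¹ * z⁻¹ := by rw [hcomm s hsZ _ ht, mul_inv_cancel_right]
  have htwist : ∀ u ∈ U, a * (x⁻¹ * u * x) * a⁻¹ = x * (a * u * a⁻¹) * x⁻¹ := by
    intro u hu
    have hq : (a * x * a⁻¹ * x)⁻¹ ∈ Q := inv_mem hax
    calc a * (x⁻¹ * u * x) * a⁻¹
        = x * ((a * x * a⁻¹ * x)⁻¹ * (a * u * a⁻¹) * ((a * x * a⁻¹ * x)⁻¹)⁻¹) * x⁻¹ := by group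
      _ = x * (a * u * a⁻¹) * x⁻¹ := by rw [hQZ _ hq _ (omegaZ_conj hu.1 a)]
  by_contra hlt
  set Ca := U ⊓ centralizer ({a} : Set G) with hCa
  have hle : Z ⊓ centralizer (B : Set G) ≤ Ca := fun z hz => by
    refine ⟨⟨hz.1, centralizer_le (SetLike.coe_subset_coe.mpr hHB) hz.2⟩, ?_⟩
    exact mem_centralizer_singleton_iff.mpr (mem_centralizer_iff.mp hz.2 a haB).symm
  have hmemCa : ∀ u ∈ U, (u ∈ Ca ↔ a * u * a⁻¹ = u) := fun u hu => by
    rw [mul_inv_eq_iff_eq_mul]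
    exact ⟨fun h => (mem_centralizer_singleton_iff.mp h.2).symm,
      fun h => ⟨hu, mem_centralizer_singleton_iff.mpr h.symm⟩⟩
  have hidx : (Ca.subgroupOf U).index ≤ 2 := by
    have hcd : (Ca.subgroupOf U).index * Nat.card Ca = Nat.card U := by
      rw [← Nat.card_congr (subgroupOfEquivOfLe (inf_le_left : Ca ≤ U)).toEquiv, index_mul_card]
    have h2 : IsPGroup 2 U := fun y => ⟨1, Subtype.ext (by
      show (y : G) ^ 2 ^ 1 = 1
      rw [pow_one, pow_two]; exact y.2.1.2.2)⟩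
    obtain ⟨n, hn⟩ := h2.index (Ca.subgroupOf U)
    have h4 : (Ca.subgroupOf U).index < 4 := by
      by_contra h5
      push Not at h5
      refine hlt (le_trans (Nat.mul_le_mul h5 (card_le_of_le hle)) hcd.le)
    rw [hn] at h4 ⊢
    rcases Nat.lt_or_ge n 2 with h | h
    · exact le_trans (Nat.pow_le_pow_right two_pos (show n ≤ 1 by omega)) le_rfl
    · have : 2 ^ 2 ≤ 2 ^ n := Nat.pow_le_pow_right two_pos h
      omega
  obtain ⟨u0, hu0, hu0a⟩ : ∃ u ∈ U, a * u * a⁻¹ ≠ u := by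
    by_contra hno
    push Not at hno
    obtain ⟨u, hu, hxu⟩ := hmoved
    refine hxu (fixed_of_sq_fixed hxo ?_)
    have h := htwist u hu
    rw [hno _ (hUxi u hu), hno u hu] at h
    calc x * x * u * (x * x)⁻¹ = x * (x * u * x⁻¹) * x⁻¹ := by group
      _ = x * (x⁻¹ * u * x) * x⁻¹ := by rw [h]
      _ = u := by group
  have hidx2 : (Ca.subgroupOf U).index = 2 := by
    have h0 : (Ca.subgroupOf U).index ≠ 0 := index_ne_zero_of_finite
    have h1 : (Ca.subgroupOf U).index ≠ 1 := fun h => hu0a ((hmemCa u0 hu0).mp (by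
      have : (⟨u0, hu0⟩ : U) ∈ Ca.subgroupOf U := by rw [index_eq_one.mp h]; exact mem_top _
      exact this))
    omega
  set t := a * u0 * a⁻¹ * u0⁻¹ with ht
  have htU : t ∈ U := mul_mem (hUa u0 hu0) (inv_mem hu0)
  have ht1 : t ≠ 1 := fun h => hu0a (mul_inv_eq_one.mp h)
  have hshift : ∀ u ∈ U, a * u * a⁻¹ = u ∨ a * u * a⁻¹ = t * u := by
    intro u hu
    by_cases h : a * u * a⁻¹ = u
    · exact Or.inl h
    refine Or.inr ?_
    have h1 : (⟨u0, hu0⟩ : U) * ⟨u, hu⟩ ∈ Ca.subgroupOf U := by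
      rw [mul_mem_iff_of_index_two hidx2]
      exact iff_of_false (fun hm => hu0a ((hmemCa u0 hu0).mp hm)) (fun hm => h ((hmemCa u hu).mp hm))
    have h2 : a * (u0 * u) * a⁻¹ = u0 * u := (hmemCa _ (mul_mem hu0 hu)).mp h1
    calc a * u * a⁻¹ = (a * u0 * a⁻¹)⁻¹ * (a * (u0 * u) * a⁻¹) := by group
      _ = (a * u0 * a⁻¹) * (u0 * u) := by rw [h2, hZi _ (omegaZ_conj hu0.1 a)]
      _ = t * u := by
          rw [ht, hZi u0 hu0.1]
          group
  have hat : a * t * a⁻¹ = t := by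
    have hai : a⁻¹ = a := inv_eq_of_mul_eq_one_right (hB2 a haB)
    calc a * t * a⁻¹ = (a * a) * u0 * (a * a)⁻¹ * (a * u0 * a⁻¹)⁻¹ := by
          rw [ht]; group
      _ = u0 * (a * u0 * a⁻¹) := by
          rw [hB2 a haB, hZi _ (omegaZ_conj hu0.1 a)]; group
      _ = t := by rw [ht, hZi u0 hu0.1]; exact hcomm _ hu0.1 _ (omegaZ_conj hu0.1 a)
  set w := x * t * x⁻¹ with hw
  have hwU : w ∈ U := hUx t htU
  have hwt : w ≠ t := by
    intro hwt
    obtain ⟨u, hu, hxu⟩ := hmoved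
    refine hxu (fixed_of_sq_fixed hxo ?_)
    have hxi : x * t * x⁻¹ = t := hwt
    set r := (x * x) * u * (x * x)⁻¹ * u⁻¹ with hr
    have hr' : r = 1 ∨ r = t := by
      have h := htwist u hu
      rcases hshift _ (hUxi u hu) with h1 | h1 <;> rcases hshift u hu with h2 | h2 <;>
        rw [h1, h2] at h
      · left
        rw [hr, show (x * x) * u * (x * x)⁻¹ = x * (x * u * x⁻¹) * x⁻¹ by group, ← h]
        group
      · right
        have e : x * u * x⁻¹ = t⁻¹ * (x⁻¹ * u * x) := by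
          rw [h, show x * (t * u) * x⁻¹ = (x * t * x⁻¹) * (x * u * x⁻¹) by group, hxi]; group
        rw [hr, show (x * x) * u * (x * x)⁻¹ = x * (x * u * x⁻¹) * x⁻¹ by group, e, hZi t htU.1,
          show x * (t * (x⁻¹ * u * x)) * x⁻¹ * u⁻¹ = x * t * x⁻¹ by group, hxi]
      · right
        rw [hr, show (x * x) * u * (x * x)⁻¹ = x * (x * u * x⁻¹) * x⁻¹ by group, ← h,
          show x * (t * (x⁻¹ * u * x)) * x⁻¹ * u⁻¹ = x * t * x⁻¹ by group, hxi]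
      · left
        have e : x * u * x⁻¹ = x⁻¹ * u * x := by
          have e' : t * (x⁻¹ * u * x) = t * (x * u * x⁻¹) := by
            rw [h, show x * (t * u) * x⁻¹ = (x * t * x⁻¹) * (x * u * x⁻¹) by group, hxi]
          exact (mul_left_cancel e').symm
        rw [hr, show (x * x) * u * (x * x)⁻¹ = x * (x * u * x⁻¹) * x⁻¹ by group, e]
        group
    have hrfix : x * r * x⁻¹ = r := by
      rcases hr' with h | h <;> rw [h]
      · simp
      · exact hxi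
    have hrx : x * x * r * (x * x)⁻¹ = r := by
      calc x * x * r * (x * x)⁻¹ = x * (x * r * x⁻¹) * x⁻¹ := by group
        _ = r := by rw [hrfix, hrfix]
    have hox : Odd (orderOf (x * x)) :=
      hxo.of_dvd_nat (by rw [← pow_two]; exact orderOf_pow_dvd 2)
    refine fixed_of_shift (coprime_two_odd ⟨1, ?_⟩ hox) hrx
    rw [pow_one, pow_two]
    exact (mul_mem (omegaZ_conj hu.1 (x * x)) (inv_mem hu.1) : r ∈ Z).2.2
  have haw : a * w * a⁻¹ = t * w := by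
    rcases hshift w hwU with h | h
    · exfalso
      refine hwt (fixed_of_sq_fixed hxo ?_)
      have e := htwist t htU
      rw [hat, ← hw] at e
      have e2 : a * (a * (x⁻¹ * t * x) * a⁻¹) * a⁻¹ = w := by rw [e, h]
      have hai : a⁻¹ = a := inv_eq_of_mul_eq_one_right (hB2 a haB)
      have e3 : x⁻¹ * t * x = w := by
        rw [← e2, show a * (a * (x⁻¹ * t * x) * a⁻¹) * a⁻¹ = (a * a) * (x⁻¹ * t * x) * (a * a)⁻¹ by group,
          hB2 a haB]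
        group
      calc x * x * t * (x * x)⁻¹ = x * w * x⁻¹ := by rw [hw]; group
        _ = t := by rw [← e3]; group
    · exact h
  have hxw : x * w * x⁻¹ = t * w := by
    have e := htwist t htU
    rw [hat, ← hw] at e
    have e3 : x⁻¹ * t * x = t * w := by
      have e2 : a * (a * (x⁻¹ * t * x) * a⁻¹) * a⁻¹ = t * w := by rw [e, haw]
      rw [show a * (a * (x⁻¹ * t * x) * a⁻¹) * a⁻¹ = (a * a) * (x⁻¹ * t * x) * (a * a)⁻¹ by group,
          hB2 a haB] at e2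
      simpa using e2
    have e4 : t = w * (x * w * x⁻¹) := by
      have := congrArg (fun y => x * y * x⁻¹) e3
      rw [show x * (x⁻¹ * t * x) * x⁻¹ = t by group,
        show x * (t * w) * x⁻¹ = (x * t * x⁻¹) * (x * w * x⁻¹) by group] at this
      exact this
    calc x * w * x⁻¹ = w⁻¹ * (w * (x * w * x⁻¹)) := by group
      _ = t * w := by rw [← e4, hZi w hwU.1, hcomm w hwU.1 t htU.1]
  refine hS4 (Cfsg.Lib.Sfour.involves_perm4 htU.1.2.2 hwU.1.2.2 ht1 ?_ (Ne.symm hwt)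
    (hcomm t htU.1 w hwU.1) hat haw (b := x * a * x⁻¹) ?_ ?_)
  · intro h
    refine ht1 ?_
    calc t = x⁻¹ * w * x := by rw [hw]; group
      _ = 1 := by rw [h]; group
  · calc x * a * x⁻¹ * w * (x * a * x⁻¹)⁻¹ = x * (a * t * a⁻¹) * x⁻¹ := by rw [hw]; group
      _ = w := by rw [hat, hw]
  · calc x * a * x⁻¹ * t * (x * a * x⁻¹)⁻¹ = x * (a * (x⁻¹ * t * x) * a⁻¹) * x⁻¹ := by group
      _ = t * w := by rw [htwist t htU, hat, ← hw, hxw]

/-- every elementary abelian subgroup of largest order lies in `Q` -/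
theorem isMaxElem_le [Group.IsSolvable G] (hS4 : ¬ Cfsg.Involves (Equiv.Perm (Fin 4)) G)
    {Q S : Subgroup G} [hQn : Q.Normal] (hQ : IsPGroup 2 Q) (hQS : Q ≤ S)
    (hCQ : centralizer (Q : Set G) ≤ Q) (hQcore : Cfsg.pCore 2 (G ⧸ Q) = ⊥)
    (hcl : ∀ a ∈ S, ∀ b ∈ S, ∀ c ∈ S, c * (a * b * a⁻¹ * b⁻¹) = a * b * a⁻¹ * b⁻¹ * c)
    {A : Subgroup G} (hA : Cfsg.Lib.Thompson.IsMaxElem 2 S A) : A ≤ Q := by
  have hSK : S ≤ stabQ Q := fun s hs q hq => mem_inf.mpr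
    ⟨mul_mem (hQn.conj_mem q hq s) (inv_mem hq),
      mem_centralizer_iff.mpr fun c hc => hcl s hs q (hQS hq) c (hQS hc)⟩
  set Z := omegaZ Q with hZ
  have key : ∀ n : ℕ, ∀ B : Subgroup G, Nat.card B = n → B ≤ S → (∀ a ∈ B, a * a = 1) →
      (∀ a ∈ B, ∀ b ∈ B, a * b = b * a) →
      Nat.card B ^ 2 * Nat.card ↥(Z ⊓ centralizer (B : Set G)) ≤
        Nat.card ↥(B ⊓ Q) ^ 2 * Nat.card Z := by
    intro n
    induction n using Nat.strong_induction_on with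
    | _ n ih =>
    intro B hn hBS hB2 hBc
    by_cases hBQ : B ≤ Q
    · rw [inf_eq_left.mpr hBQ]
      exact Nat.mul_le_mul_left _ (card_le_of_le inf_le_left)
    obtain ⟨H, a, x, hHB, hcard, hQH, haB, hxK, hxo, hxQ, hax, hHx⟩ :=
      exists_inverted hQcore (hBS.trans hSK) hB2 hBc hBQ
    have h4 := four_card_le hS4 hQ hCQ hHB haB hB2 hBc
      (fun z hz h hh k hk => hcl h (hBS hh) z (hQS hz.1) k (hBS hk)) hxK hxo hxQ hax hHx
    have hHlt : Nat.card H < n := by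
      have : 0 < Nat.card H := Nat.card_pos
      omega
    have hih := ih _ hHlt H rfl (hHB.trans hBS) (fun a ha => hB2 a (hHB ha))
      (fun a ha b hb => hBc a (hHB ha) b (hHB hb))
    have hHQ : H ⊓ Q = B ⊓ Q :=
      le_antisymm (inf_le_inf_right Q hHB) (le_inf hQH inf_le_right)
    rw [hHQ] at hih
    refine le_trans ?_ hih
    rw [hcard]
    calc (2 * Nat.card H) ^ 2 * Nat.card ↥(Z ⊓ centralizer (B : Set G))
        = Nat.card H ^ 2 * (4 * Nat.card ↥(Z ⊓ centralizer (B : Set G))) := by ring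
      _ ≤ _ := Nat.mul_le_mul_left _ h4
  have hA2 : ∀ a ∈ A, a * a = 1 := fun a ha => by rw [← pow_two]; exact hA.2.1.2 a ha
  haveI := hA.2.1.1
  have hAc : ∀ a ∈ A, ∀ b ∈ A, a * b = b * a := fun a ha b hb =>
    congrArg Subtype.val (mul_comm' (⟨a, ha⟩ : A) ⟨b, hb⟩)
  have hclaim := key _ A rfl hA.1 hA2 hAc
  set M := (A ⊓ Q) ⊔ Z with hM
  have hMe : Cfsg.IsElementaryAbelian 2 M := by
    refine ⟨⟨⟨?_⟩⟩, ?_⟩
    · rintro ⟨u, hu⟩ ⟨v, hv⟩
      refine Subtype.ext ?_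
      show u * v = v * u
      obtain ⟨p1, hp1, z1, hz1, rfl⟩ := mem_sup_of_normal_right.mp hu
      obtain ⟨p2, hp2, z2, hz2, rfl⟩ := mem_sup_of_normal_right.mp hv
      have e1 : Commute p1 p2 := hAc p1 hp1.1 p2 hp2.1
      have e2 : Commute z1 p2 := hz1.2.1 p2 hp2.2
      have e3 : Commute p1 z2 := (hz2.2.1 p1 hp1.2).symm
      have e4 : Commute z1 z2 := hz1.2.1 z2 hz2.1
      exact ((e1.mul_right e3).mul_left (e2.mul_right e4)).eq
    · intro u hu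
      obtain ⟨p1, hp1, z1, hz1, rfl⟩ := mem_sup_of_normal_right.mp hu
      rw [(show Commute p1 z1 from (hz1.2.1 p1 hp1.2).symm).mul_pow, pow_two, pow_two,
        hA2 p1 hp1.1, hz1.2.2, one_mul]
  have hMS : M ≤ S := sup_le (inf_le_left.trans hA.1) fun z hz => hQS hz.1
  have hMA := hA.2.2 M hMS hMe
  have hMcard : Nat.card M * Nat.card ↥(Z ⊓ (A ⊓ Q)) = Nat.card ↥(A ⊓ Q) * Nat.card Z := by
    have h1 := relIndex_mul_relIndex ⊥ Z M bot_le le_sup_right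
    have h2 := relIndex_mul_relIndex ⊥ (Z ⊓ (A ⊓ Q)) (A ⊓ Q) bot_le inf_le_right
    rw [hM, relIndex_sup_right, relIndex_bot_left, relIndex_bot_left] at h1
    rw [inf_relIndex_right, relIndex_bot_left, relIndex_bot_left] at h2
    rw [hM, ← h1, ← h2]
    ring
  have hsub : Z ⊓ (A ⊓ Q) ≤ Z ⊓ centralizer (A : Set G) := fun z hz =>
    ⟨hz.1, mem_centralizer_iff.mpr fun b hb => hAc b hb z hz.2.1⟩
  have hsub' : Nat.card ↥(Z ⊓ (A ⊓ Q)) ≤ Nat.card ↥(Z ⊓ centralizer (A : Set G)) := card_le_of_le hsub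
  have hfin : Nat.card A ≤ Nat.card ↥(A ⊓ Q) := by
    have hpos : 0 < Nat.card A * Nat.card ↥(Z ⊓ centralizer (A : Set G)) :=
      Nat.mul_pos Nat.card_pos Nat.card_pos
    refine Nat.le_of_mul_le_mul_left ?_ hpos
    calc Nat.card A * Nat.card ↥(Z ⊓ centralizer (A : Set G)) * Nat.card A
        = Nat.card A ^ 2 * Nat.card ↥(Z ⊓ centralizer (A : Set G)) := by ring
      _ ≤ Nat.card ↥(A ⊓ Q) ^ 2 * Nat.card Z := hclaim
      _ = Nat.card ↥(A ⊓ Q) * (Nat.card M * Nat.card ↥(Z ⊓ (A ⊓ Q))) := by rw [hMcard]; ring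
      _ ≤ Nat.card ↥(A ⊓ Q) * (Nat.card A * Nat.card ↥(Z ⊓ centralizer (A : Set G))) :=
          Nat.mul_le_mul_left _ (Nat.mul_le_mul hMA hsub')
      _ = _ := by ring
  exact inf_eq_left.mp (eq_of_le_of_card_ge inf_le_left hfin)

theorem central_commutators {S : Subgroup G} (h : Subgroup.lowerCentralSeries S 2 = ⊥) :
    ∀ a ∈ S, ∀ b ∈ S, ∀ c ∈ S, c * (a * b * a⁻¹ * b⁻¹) = a * b * a⁻¹ * b⁻¹ * c := by
  intro a ha b hb c hc
  rw [Subgroup.lowerCentralSeries_succ, Subgroup.lowerCentralSeries_succ, Subgroup.lowerCentralSeries_zero,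
    commutator_eq_bot_iff_le_centralizer] at h
  have h2 : a * b * a⁻¹ * b⁻¹ ∈ ⁅S, S⁆ := commutator_mem_commutator ha hb
  exact mem_centralizer_iff.mp (h h2) c hc

/-- the case of a trivial odd core -/
theorem thompson_normal [Group.IsSolvable G] (hS4 : ¬ Cfsg.Involves (Equiv.Perm (Fin 4)) G)
    (hO : Cfsg.pPrimeCore 2 G = ⊥) (S : Sylow 2 G)
    (hcl : ∀ a ∈ (S : Subgroup G), ∀ b ∈ (S : Subgroup G), ∀ c ∈ (S : Subgroup G),
      c * (a * b * a⁻¹ * b⁻¹) = a * b * a⁻¹ * b⁻¹ * c) :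
    (Cfsg.thompsonSubgroupOf 2 (S : Subgroup G)).Normal := by
  haveI : Fact (Nat.Prime 2) := ⟨Nat.prime_two⟩
  set Q := Cfsg.pCore 2 G with hQdef
  have hQ : IsPGroup 2 Q := Cfsg.Lib.Components.isPGroup_pCore 2
  have hQS : Q ≤ (S : Subgroup G) := Cfsg.Lib.Coprime.pCore_le_sylow 2 S
  have hCQ : centralizer (Q : Set G) ≤ Q := Cfsg.Lib.Coprime.centralizer_pCore_le 2 hO
  have hQcore : Cfsg.pCore 2 (G ⧸ Q) = ⊥ := by
    have hp : IsPGroup 2 ((Cfsg.pCore 2 (G ⧸ Q)).comap (QuotientGroup.mk' Q)) :=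
      (Cfsg.Lib.Components.isPGroup_pCore 2).comap_of_ker_isPGroup _
        (by rw [QuotientGroup.ker_mk']; exact hQ)
    have h1 := Cfsg.Lib.Components.le_pCore hp
    rw [← map_comap_eq_self_of_surjective (QuotientGroup.mk'_surjective Q) (Cfsg.pCore 2 (G ⧸ Q)),
      Subgroup.map_eq_bot_iff, QuotientGroup.ker_mk']
    exact h1
  have hle : Cfsg.thompsonSubgroupOf 2 (S : Subgroup G) ≤ Q := by
    rw [Cfsg.Lib.Thompson.thompsonSubgroupOf_eq]
    exact sSup_le fun A hA => isMaxElem_le hS4 hQ hQS hCQ hQcore hcl hA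
  have he := Cfsg.Lib.ZJ.thompson_inf_eq hle
  rw [inf_eq_right.mpr hQS] at he
  rw [← he, ← normalizer_eq_top_iff, eq_top_iff, ← normalizer_eq_top (H := Q)]
  exact Cfsg.Lib.Thompson.normalizer_le_normalizer_thompson Q

theorem involves_of_quotient {N : Subgroup G} [N.Normal] {Y : Type} [Group Y]
    (h : Cfsg.Involves Y (G ⧸ N)) : Cfsg.Involves Y G :=
  Cfsg.Lib.QuadPair.involves_of_surjective (QuotientGroup.mk'_surjective N) h

/-- **Thompson factorization** for solvable `S₄`-free groups -/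
theorem factorization [Group.IsSolvable G] (hS4 : ¬ Cfsg.Involves (Equiv.Perm (Fin 4)) G)
    (S : Sylow 2 G) (hcl : Subgroup.lowerCentralSeries (S : Subgroup G) 2 = ⊥) :
    normalizer (Cfsg.thompsonSubgroupOf 2 (S : Subgroup G) : Set G) ⊔ Cfsg.pPrimeCore 2 G = ⊤ := by
  haveI : Fact (Nat.Prime 2) := ⟨Nat.prime_two⟩
  set O := Cfsg.pPrimeCore 2 G with hOdef
  have hOc : (Nat.card O).Coprime 2 := Cfsg.Lib.Components.coprime_card_pPrimeCore 2
  set π := QuotientGroup.mk' O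
  have hinj : Set.InjOn π (S : Subgroup G) := Cfsg.Lib.ZJ.injOn_mk hOc S.2
  set S' := S.mapSurjective (QuotientGroup.mk'_surjective O)
  have hS' : (S' : Subgroup (G ⧸ O)) = (S : Subgroup G).map π := rfl
  have hsol : Group.IsSolvable (G ⧸ O) := inferInstance
  have hcl' : ∀ a ∈ (S' : Subgroup (G ⧸ O)), ∀ b ∈ (S' : Subgroup (G ⧸ O)),
      ∀ c ∈ (S' : Subgroup (G ⧸ O)), c * (a * b * a⁻¹ * b⁻¹) = a * b * a⁻¹ * b⁻¹ * c := by
    rintro _ ⟨a, ha, rfl⟩ _ ⟨b, hb, rfl⟩ _ ⟨c, hc, rfl⟩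
    have h := congrArg π (central_commutators hcl a ha b hb c hc)
    simpa only [map_mul, map_inv] using h
  have hn := thompson_normal (G := G ⧸ O) (fun h => hS4 (involves_of_quotient h))
    Cfsg.Lib.Coprime.pPrimeCore_quotient_eq_bot S' hcl'
  rw [hS', ← Cfsg.Lib.Thompson.map_thompsonSubgroupOf hinj] at hn
  rw [sup_comm]
  exact Cfsg.Lib.ZJ.sup_normalizer_of_map_normal hOc S
    (Cfsg.Lib.Thompson.thompsonSubgroupOf_le _) hn

end Cfsg.Lib.SolvThompson
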